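import Mathlib

/-!
Integer matrices of finite order: the characteristic polynomial is a product of cyclotomic
polynomials, and eigenspaces modulo a prime not dividing the order bound their multiplicities.
-/

set_option autoImplicit false

namespace CfsgLib.Chevalley.SylowTorus

open Polynomial Matrix

variable {l N : ℕ}

theorem root_pow_eq_one (M : Matrix (Fin l) (Fin l) ℤ) (hN : M ^ N = 1) {z : ℂ}
    (hz : aeval z M.charpoly = 0) : z ^ N = 1 := by
  set MC := M.map (Int.castRingHom ℂ) with hMC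
  have h1 : MC.charpoly.IsRoot z := by
    rw [hMC, Matrix.charpoly_map, IsRoot, eval_map]
    simpa [aeval_def] using hz
  rw [IsRoot, Matrix.eval_charpoly] at h1
  obtain ⟨x, hx0, hx⟩ := Matrix.exists_mulVec_eq_zero_iff.2 h1
  have h2 : MC *ᵥ x = z • x := by
    rw [Matrix.sub_mulVec, sub_eq_zero] at hx
    rw [← hx]
    ext i
    simp [Matrix.scalar, Matrix.mulVec_diagonal]
  have h3 : ∀ k : ℕ, MC ^ k *ᵥ x = z ^ k • x := by
    intro k
    induction k with
    | zero => simp
    | succ k ih => rw [pow_succ, ← Matrix.mulVec_mulVec, h2, Matrix.mulVec_smul, ih, smul_smul, pow_succ']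
  have h4 := h3 N
  rw [hMC, ← RingHom.mapMatrix_apply, ← map_pow, hN, map_one, Matrix.one_mulVec] at h4
  obtain ⟨i, hi⟩ := Function.ne_iff.1 hx0
  have h5 := congrFun h4 i
  simp only [Pi.smul_apply, smul_eq_mul] at h5
  exact mul_right_cancel₀ hi (h5.symm.trans (one_mul _).symm)

theorem exists_cyclotomic_list (hN : 0 < N) : ∀ (n : ℕ) (p : ℤ[X]), p.natDegree ≤ n → p.Monic →
    (∀ z : ℂ, aeval z p = 0 → z ^ N = 1) →
    ∃ L : List ℕ, (∀ k ∈ L, k ∣ N) ∧ p = (L.map fun k => cyclotomic k ℤ).prod := by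
  intro n
  induction n with
  | zero =>
    intro p hp hm _
    exact ⟨[], by simp, by simpa using (hm.natDegree_eq_zero.1 (Nat.le_zero.1 hp))⟩
  | succ n ih =>
    intro p hp hm hz
    rcases Nat.eq_zero_or_pos p.natDegree with h0 | h0
    · exact ⟨[], by simp, by simpa using (hm.natDegree_eq_zero.1 h0)⟩
    obtain ⟨z, hzr⟩ := IsAlgClosed.exists_root (p.map (Int.castRingHom ℂ)) (by
      rw [degree_map_eq_of_injective Int.cast_injective, degree_eq_natDegree hm.ne_zero]
      exact_mod_cast h0.ne')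
    have hz0 : aeval z p = 0 := by
      rw [IsRoot, eval_map] at hzr
      simpa [aeval_def] using hzr
    set k := orderOf z
    have hk : IsPrimitiveRoot z k := IsPrimitiveRoot.orderOf z
    have hkN : k ∣ N := orderOf_dvd_of_pow_eq_one (hz z hz0)
    have hk0 : 0 < k := Nat.pos_of_dvd_of_pos hkN hN
    have hdvd : cyclotomic k ℤ ∣ p := by
      rw [cyclotomic_eq_minpoly hk hk0]
      exact minpoly.isIntegrallyClosed_dvd (hk.isIntegral hk0) hz0
    obtain ⟨g, hg⟩ := hdvd
    have hgm : g.Monic := (cyclotomic.monic k ℤ).of_mul_monic_left (hg ▸ hm)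
    have hdeg : p.natDegree = k.totient + g.natDegree := by
      rw [hg, (cyclotomic.monic k ℤ).natDegree_mul hgm, natDegree_cyclotomic]
    have hφ : 0 < k.totient := Nat.totient_pos.2 hk0
    obtain ⟨L, hL, hLg⟩ := ih g (by omega) hgm fun w hw => hz w (by rw [hg, map_mul, hw, mul_zero])
    exact ⟨k :: L, List.forall_mem_cons.2 ⟨hkN, hL⟩, by rw [List.map_cons, List.prod_cons, ← hLg, hg]⟩

theorem rootMultiplicity_prod {r d : ℕ} [Fact r.Prime] {t : ZMod r} (hd : IsPrimitiveRoot t d)
    (hd0 : ¬ r ∣ d) : ∀ L : List ℕ, (∀ k ∈ L, ¬ r ∣ k) →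
    rootMultiplicity t (((L.map fun k => cyclotomic k ℤ).prod).map (Int.castRingHom (ZMod r))) ≤
      L.count d := by
  intro L
  induction L with
  | nil => intro _; simp
  | cons k L ih =>
    intro hL
    rw [List.forall_mem_cons] at hL
    have hne : ((cyclotomic k ℤ * (L.map fun k => cyclotomic k ℤ).prod).map (Int.castRingHom (ZMod r))) ≠ 0 :=
      ((cyclotomic.monic k ℤ).mul (List.prod_induction Monic (fun _ _ ha hb => ha.mul hb) monic_one (by
        simp only [List.mem_map]; rintro _ ⟨i, -, rfl⟩; exact cyclotomic.monic i ℤ))).map _ |>.ne_zero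
    have hnz : NeZero (k : ZMod r) := ⟨fun h => hL.1 ((ZMod.natCast_eq_zero_iff k r).1 h)⟩
    rw [List.map_cons, List.prod_cons, Polynomial.map_mul, rootMultiplicity_mul (by rwa [← Polynomial.map_mul]),
      List.count_cons, map_cyclotomic]
    have h1 := ih hL.2
    by_cases hkd : k = d
    · subst hkd
      have h2 : rootMultiplicity t (cyclotomic k (ZMod r)) ≤ 1 :=
        rootMultiplicity_le_one_of_separable
          (separable_cyclotomic k (ZMod r)) t
      simp only [beq_self_eq_true, if_true]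
      omega
    · have h2 : rootMultiplicity t (cyclotomic k (ZMod r)) = 0 :=
        rootMultiplicity_eq_zero fun h => hkd ((isRoot_cyclotomic_iff.1 h).unique hd)
      rw [if_neg (by simpa using hkd)]
      omega

/-- The eigenspace for an eigenvalue of order `d` modulo `r` bounds the multiplicity of `Φ_d`. -/
theorem cyclotomic_pow_dvd (M : Matrix (Fin l) (Fin l) ℤ) (hN : M ^ N = 1) {r d a : ℕ} [Fact r.Prime]
    (hrN : ¬ r ∣ N) {t : ZMod r} (ht : IsPrimitiveRoot t d) (hrd : ¬ r ∣ d)
    (hcard : r ^ a < Nat.card {y : Fin l → ZMod r // y ᵥ* M.map (Int.castRingHom (ZMod r)) = t • y}) :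
    cyclotomic d ℤ ^ (a + 1) ∣ M.charpoly := by
  classical
  have hN0 : 0 < N := Nat.pos_of_ne_zero fun h => hrN (h ▸ dvd_zero r)
  obtain ⟨L, hL, hp⟩ := exists_cyclotomic_list hN0 _ M.charpoly le_rfl (Matrix.charpoly_monic M)
    fun z hz => root_pow_eq_one M hN hz
  set Mr := M.map (Int.castRingHom (ZMod r))
  set f : Module.End (ZMod r) (Fin l → ZMod r) := Matrix.toLin' Mrᵀ
  have hmem : ∀ y, y ᵥ* Mr = t • y ↔ y ∈ f.eigenspace t := fun y => by
    rw [Module.End.mem_eigenspace_iff, Matrix.toLin'_apply, Matrix.mulVec_transpose]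
  rw [Nat.card_congr (Equiv.subtypeEquivRight hmem), Module.natCard_eq_pow_finrank (K := ZMod r),
    Nat.card_zmod] at hcard
  have h1 := (Nat.pow_lt_pow_iff_right (Fact.out : r.Prime).one_lt).1 hcard
  have h2 := LinearMap.finrank_eigenspace_le f t
  have h3 : f.charpoly = (((L.map fun k => cyclotomic k ℤ).prod).map (Int.castRingHom (ZMod r))) := by
    rw [Matrix.charpoly_toLin', Matrix.charpoly_transpose, Matrix.charpoly_map, hp]
  rw [h3] at h2
  have h4 := rootMultiplicity_prod ht hrd L fun k hk h => hrN (h.trans (hL k hk))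
  rw [hp]
  have h5 : (List.replicate (a + 1) d).Sublist L := List.replicate_sublist_iff.2 (by omega)
  have h6 := (h5.map fun k => cyclotomic k ℤ).prod_dvd_prod
  rwa [List.map_replicate, List.prod_replicate] at h6

theorem totient_le (M : Matrix (Fin l) (Fin l) ℤ) {d m : ℕ} (h : cyclotomic d ℤ ^ m ∣ M.charpoly) :
    m * d.totient ≤ l := by
  have h1 := natDegree_le_of_dvd h (Matrix.charpoly_monic M).ne_zero
  rwa [natDegree_pow, natDegree_cyclotomic, Matrix.charpoly_natDegree_eq_dim, Fintype.card_fin] at h1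

/-- The complementary factor of a large power of `Φ_d`. -/
theorem cofactor (M : Matrix (Fin l) (Fin l) ℤ) (hN : M ^ N = 1) {d m : ℕ}
    (h : cyclotomic d ℤ ^ m ∣ M.charpoly) :
    (l = m * d.totient ∧ M.charpoly = cyclotomic d ℤ ^ m) ∨
      (l ≠ m * d.totient + 1 ∧ m * d.totient < l) ∨
      (∃ c : ℤ, c ^ N = 1 ∧ l = m * d.totient + 1 ∧ M.charpoly = cyclotomic d ℤ ^ m * (X - C c)) := by
  obtain ⟨g, hg⟩ := h
  have hgm : g.Monic := ((cyclotomic.monic d ℤ).pow m).of_mul_monic_left (hg ▸ Matrix.charpoly_monic M)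
  have hdeg : l = m * d.totient + g.natDegree := by
    have := congrArg natDegree hg
    rwa [((cyclotomic.monic d ℤ).pow m).natDegree_mul hgm, natDegree_pow, natDegree_cyclotomic,
      Matrix.charpoly_natDegree_eq_dim, Fintype.card_fin] at this
  rcases Nat.lt_trichotomy g.natDegree 1 with h0 | h0 | h0
  · left
    rw [hgm.natDegree_eq_zero.1 (by omega), mul_one] at hg
    exact ⟨by omega, hg⟩
  · right; right
    have hgX := hgm.eq_X_add_C h0
    refine ⟨-g.coeff 0, ?_, by omega, by rw [hg]; congr 1; rw [map_neg, sub_neg_eq_add]; exact hgX⟩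
    have h1 := root_pow_eq_one M hN (z := ((-g.coeff 0 : ℤ) : ℂ)) (by
      rw [hg, map_mul]
      refine mul_eq_zero_of_right _ ?_
      rw [hgX]
      simp)
    exact_mod_cast h1
  · right; left
    exact ⟨by omega, by omega⟩

/-- A polynomial with the roots of the characteristic polynomial kills the matrix. -/
theorem kill (M : Matrix (Fin l) (Fin l) ℤ) (hN : M ^ N = 1) (hN0 : 0 < N) {Q : ℤ[X]} {k : ℕ}
    (hk : k ≠ 0) (h : M.charpoly ∣ Q ^ k) : aeval M Q = 0 := by
  classical
  let e : ℤ →+* ℚ := Int.castRingHom ℚ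
  set MQ := M.map e with hMQ
  set g := EuclideanDomain.gcd (M.charpoly.map e) (X ^ N - 1)
  have hg0 : aeval MQ g = 0 := by
    rw [show g = _ from EuclideanDomain.gcd_eq_gcd_ab _ _, map_add, map_mul, map_mul, ← Matrix.charpoly_map,
      Matrix.aeval_self_charpoly]
    simp only [map_sub, map_pow, aeval_X, map_one]
    rw [hMQ, ← RingHom.mapMatrix_apply, ← map_pow, hN, map_one, sub_self, zero_mul, zero_mul, add_zero]
  have hsep : (X ^ N - 1 : ℚ[X]).Separable := by
    rw [X_pow_sub_one_separable_iff]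
    exact_mod_cast hN0.ne'
  have h1 : g ∣ Q.map e ^ k := by
    rw [← Polynomial.map_pow]
    exact (EuclideanDomain.gcd_dvd_left _ _).trans (Polynomial.map_dvd e h)
  have h2 : g ∣ Q.map e :=
    ((hsep.squarefree).squarefree_of_dvd (EuclideanDomain.gcd_dvd_right _ _)).dvd_pow_iff_dvd hk |>.1 h1
  obtain ⟨c, hc⟩ := h2
  have h3 : aeval MQ (Q.map e) = 0 := by rw [hc, map_mul, hg0, zero_mul]
  rw [show e = algebraMap ℤ ℚ from (algebraMap_int_eq ℚ).symm, aeval_map_algebraMap] at h3
  refine Matrix.map_injective (f := e) Int.cast_injective ?_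
  show (aeval M Q).map e = Matrix.map 0 e
  rw [Matrix.map_zero _ (map_zero e)]
  rw [← h3]
  exact (aeval_algHom_apply e.mapMatrix.toIntAlgHom M Q).symm

/-- Eigenvectors of a simple eigenvalue are proportional. -/
theorem proportional (M : Matrix (Fin l) (Fin l) ℤ) {c : ℤ}
    (hc : rootMultiplicity (c : ℚ) (M.charpoly.map (Int.castRingHom ℚ)) ≤ 1) {y y' : Fin l → ℤ}
    (hy : y ᵥ* M = c • y) (hy' : y' ᵥ* M = c • y') (i j : Fin l) : y i * y' j = y j * y' i := by
  classical
  set MQ := M.map (Int.castRingHom ℚ)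
  set f : Module.End ℚ (Fin l → ℚ) := Matrix.toLin' MQᵀ
  have hrank : Module.finrank ℚ (f.eigenspace (c : ℚ)) ≤ 1 := by
    refine (LinearMap.finrank_eigenspace_le f _).trans ?_
    rwa [Matrix.charpoly_toLin', Matrix.charpoly_transpose, Matrix.charpoly_map]
  have hmem : ∀ z : Fin l → ℤ, z ᵥ* M = c • z → (fun k => (z k : ℚ)) ∈ f.eigenspace (c : ℚ) := by
    intro z hz
    rw [Module.End.mem_eigenspace_iff, Matrix.toLin'_apply, Matrix.mulVec_transpose]
    funext k
    have := congrArg (fun v : Fin l → ℤ => ((v k : ℤ) : ℚ)) hz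
    simpa [MQ, Matrix.vecMul, dotProduct] using this
  obtain ⟨v, hv⟩ := finrank_le_one_iff.1 hrank
  obtain ⟨s, hs⟩ := hv ⟨_, hmem y hy⟩
  obtain ⟨s', hs'⟩ := hv ⟨_, hmem y' hy'⟩
  have e1 : ∀ k, (y k : ℚ) = s * (v : Fin l → ℚ) k := fun k => (congrFun (congrArg Subtype.val hs) k).symm
  have e2 : ∀ k, (y' k : ℚ) = s' * (v : Fin l → ℚ) k := fun k => (congrFun (congrArg Subtype.val hs') k).symm
  have : ((y i * y' j : ℤ) : ℚ) = ((y j * y' i : ℤ) : ℚ) := by
    push_cast [e1, e2]; ring
  exact_mod_cast this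

end CfsgLib.Chevalley.SylowTorus
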