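import Cfsg.Agent.Lib.Chevalley.SylowTorus.WeylElem
import Cfsg.Agent.Lib.Chevalley.CoxeterTorus.Instances

/-!
Multiplicities of cyclotomic factors in the Weyl groups of D4, E6 and E7 not excluded by degrees.
-/

set_option autoImplicit false

namespace CfsgLib.Chevalley.SylowTorus

open Tbl hiding X
open CoxeterTorus Polynomial
open scoped Matrix

theorem mat_orderOf {T : Tbl} (hT : T.Valid) {v : Equiv.Perm (Fin T.n)} (hv : v ∈ T.WP hT) :
    mat T hT v ^ orderOf v = 1 := by rw [← mat_pow hT hv, pow_orderOf_eq_one, mat_one hT]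

theorem aeval_kill {T : Tbl} (hT : T.Valid) {v : Equiv.Perm (Fin T.n)} (hv : v ∈ T.WP hT) {Q : ℤ[X]}
    {k : ℕ} (hk : k ≠ 0) (h : (mat T hT v).charpoly ∣ Q ^ k) : aeval (mat T hT v) Q = 0 :=
  kill _ (mat_orderOf hT hv) (orderOf_pos v) hk h

theorem int_sq {c : ℤ} {N : ℕ} (hN : 0 < N) (h : c ^ N = 1) : c = 1 ∨ c = -1 :=
  Int.isUnit_eq_one_or ((IsUnit.of_pow_eq_one h hN.ne'))

theorem sign_eq {α : Type*} [DecidableEq α] [Fintype α] (σ : Equiv.Perm α) {n k : ℕ} (hn : Even n)
    (hn0 : 0 < n) (hct : ∀ c ∈ σ.cycleType, c = n) (hs : σ.support.card = n * k) :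
    ((Equiv.Perm.sign σ : ℤˣ) : ℤ) = (-1) ^ k := by
  have h1 : σ.cycleType = Multiset.replicate σ.cycleType.card n := Multiset.eq_replicate.2 ⟨rfl, hct⟩
  have h2 := σ.sum_cycleType
  rw [h1, Multiset.sum_replicate, smul_eq_mul, hs, mul_comm] at h2
  have h3 := Nat.eq_of_mul_eq_mul_left hn0 h2
  rw [Equiv.Perm.sign_of_cycleType, σ.sum_cycleType, h3, pow_add, hs, (hn.mul_right k).neg_one_pow]
  simp

theorem det_refP {T : Tbl} (hT : T.Valid) (i : Fin T.rank) (h2 : T.ca i (T.simple i) = 2) :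
    (mat T hT (T.refP hT i)).det = -1 := by
  have h : mat T hT (T.refP hT i) = 1 + Matrix.replicateCol Unit (Pi.single i (1 : ℤ)) *
      Matrix.replicateRow Unit (fun k : Fin T.rank => -T.ca i (T.simple k)) := by
    ext a k
    have := mat_refP_apply hT i (Pi.single a 1) k
    rw [Matrix.single_one_vecMul] at this
    simp only [Matrix.row] at this
    rw [this, Matrix.add_apply, Matrix.mul_apply, Fintype.sum_unique, Matrix.replicateCol_apply, Matrix.replicateRow_apply, Matrix.one_apply]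
    simp only [Pi.single_apply]
    by_cases hki : k = a <;> by_cases hia : i = a <;> simp_all [eq_comm] <;> ring
  rw [h, Matrix.det_one_add_replicateCol_mul_replicateRow]
  simp [dotProduct, h2, Pi.single_apply]

theorem mult_le_one {A : ℤ[X]} (hA : A.Monic) (c x : ℤ) (hx : (A.map (Int.castRingHom ℚ)).eval (x : ℚ) ≠ 0) :
    rootMultiplicity (x : ℚ) ((A * (X - C c)).map (Int.castRingHom ℚ)) ≤ 1 := by
  rw [Polynomial.map_mul, rootMultiplicity_mul (mul_ne_zero (hA.map _).ne_zero ((monic_X_sub_C c).map _).ne_zero),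
    rootMultiplicity_eq_zero (by rwa [IsRoot]), zero_add, Polynomial.map_sub, Polynomial.map_X, map_C,
    rootMultiplicity_X_sub_C]
  split_ifs <;> omega

theorem kill_four {l N : ℕ} (M : Matrix (Fin l) (Fin l) ℤ) (hN : M ^ N = 1) (hN0 : 0 < N) (c : ℤ)
    (hp : M.charpoly = (X ^ 2 + 1) ^ 3 * (X - C c)) :
    (M * M + 1) * (M - c • (1 : Matrix (Fin l) (Fin l) ℤ)) = 0 := by
  have h1 := kill M hN hN0 (Q := (X ^ 2 + 1) * (X - C c)) (k := 3) (by norm_num) (by
    rw [hp, mul_pow]; exact mul_dvd_mul_left _ (dvd_pow_self _ (by norm_num)))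
  simp only [map_mul, map_add, map_sub, map_pow, aeval_X, map_one, aeval_C] at h1
  rwa [sq, Algebra.algebraMap_eq_smul_one] at h1

theorem conj_kill {R : Type*} [Ring R] (G G' M : R) (c : ℤ) (h1 : G' * G = 1) (h2 : G * G' = 1)
    (hk : (M * M + 1) * (M - c • (1 : R)) = 0) :
    (G' * M * G * (G' * M * G) + 1) * (G' * M * G - c • (1 : R)) = 0 := by
  have e1 : G' * M * G * (G' * M * G) = G' * (M * M) * G := by
    calc _ = G' * M * (G * G') * M * G := by simp only [mul_assoc]
      _ = _ := by rw [h2, mul_one, mul_assoc G' M M]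
  have e2 : G' * M * G * (G' * M * G) + 1 = G' * (M * M + 1) * G := by
    rw [e1, mul_add, add_mul, mul_one, h1]
  have e3 : G' * M * G - c • (1 : R) = G' * (M - c • (1 : R)) * G := by
    rw [mul_sub, sub_mul, mul_smul_comm, mul_one, smul_mul_assoc, h1]
  calc _ = G' * (M * M + 1) * (G * G') * (M - c • (1 : R)) * G := by rw [e2, e3]; simp only [mul_assoc]
    _ = G' * ((M * M + 1) * (M - c • (1 : R))) * G := by rw [h2, mul_one]; simp only [mul_assoc]
    _ = 0 := by rw [hk, mul_zero, zero_mul]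

theorem pow_four {R : Type*} [Ring R] (M : R) (c : ℤ) (hc : c * c = 1)
    (hk : (M * M + 1) * (M - c • (1 : R)) = 0) : M * M * (M * M) = 1 := by
  have h1 : (M - c • (1 : R)) * (M + c • (1 : R)) = M * M - 1 := by
    rw [sub_mul, mul_add, mul_add, mul_smul_comm, mul_one, smul_mul_assoc, one_mul, smul_mul_assoc, one_mul,
      smul_smul, hc, one_smul]
    abel
  have h2 : (M * M + 1) * (M * M - 1) = 0 := by rw [← h1, ← mul_assoc, hk, zero_mul]
  rw [← sub_eq_zero, ← h2]
  noncomm_ring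

theorem neg_kill {R : Type*} [Ring R] (M : R) (c : ℤ) (hk : (M * M + 1) * (M - c • (1 : R)) = 0) :
    (M * -1 * (M * -1) + 1) * (M * -1 - (-c) • (1 : R)) = 0 := by
  rw [mul_neg_one, neg_mul_neg, neg_smul, show -M - -(c • (1 : R)) = -(M - c • (1 : R)) by abel, mul_neg, hk,
    neg_zero]

namespace E6

open Data.E6

/-- The longest elements of the maximal parabolic subgroups. -/
def words : Fin tbl.rank → List (Fin tbl.rank) :=
  (![[1, 2, 3, 1, 2, 3, 4, 3, 1, 2, 3, 4, 5, 4, 3, 1, 2, 3, 4, 5],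
    [0, 2, 0, 3, 2, 0, 4, 3, 2, 0, 5, 4, 3, 2, 0],
    [0, 1, 3, 1, 4, 3, 1, 5, 4, 3, 1],
    [0, 1, 2, 0, 4, 5, 4],
    [0, 1, 2, 0, 3, 1, 2, 0, 3, 2, 5],
    [0, 1, 2, 0, 3, 1, 2, 0, 3, 2, 4, 3, 1, 2, 0, 3, 2, 4, 3, 1]] : Fin 6 → List (Fin 6))

def longest : List (Fin tbl.rank) :=
  ([0, 1, 2, 0, 3, 1, 2, 0, 3, 2, 4, 3, 1, 2, 0, 3, 2, 4, 3, 1, 5, 4, 3, 1, 2, 0, 3, 2, 4, 3, 1, 5, 4, 3, 2, 0] : List (Fin 6))

theorem no_neg {v : Equiv.Perm (Fin tbl.n)} (hv : v ∈ tbl.WP valid) : mat tbl valid v ≠ -1 :=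
  no_neg_one valid (l := longest) (by decide +kernel) (by decide +kernel) hv

theorem two {v : Equiv.Perm (Fin tbl.n)} (hv : v ∈ tbl.WP valid) :
    ¬ cyclotomic 2 ℤ ^ 5 ∣ (mat tbl valid v).charpoly := by
  intro h
  have hr : tbl.rank = 6 := rfl
  rcases cofactor _ (mat_orderOf valid hv) h with ⟨e, -⟩ | ⟨e, e'⟩ | ⟨c, hc, -, hp⟩
  · rw [hr, show (2 : ℕ).totient = 1 from rfl] at e; omega
  · rw [hr, show (2 : ℕ).totient = 1 from rfl] at e e'; omega
  set M := mat tbl valid v
  rw [cyclotomic_two] at hp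
  have hc1 := int_sq (orderOf_pos v) hc
  have hM2 : M * M = 1 := by
    have h1 := aeval_kill valid hv (Q := (X + 1) * (X - 1)) (k := 6) (by norm_num) (by
      rw [hp, mul_pow]
      rcases hc1 with rfl | rfl
      · exact mul_dvd_mul (pow_dvd_pow _ (by norm_num)) (by simp only [map_one]; exact dvd_pow_self _ (by norm_num))
      · rw [show (X - C (-1 : ℤ)) = X + 1 by simp, ← pow_succ]
        exact dvd_mul_right _ _)
    simp only [map_mul, map_add, map_sub, aeval_X, map_one] at h1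
    rwa [show (M + 1) * (M - 1) = M * M - 1 by noncomm_ring, sub_eq_zero] at h1
  have hmult : rootMultiplicity ((1 : ℤ) : ℚ) (M.charpoly.map (Int.castRingHom ℚ)) ≤ 1 := by
    rw [hp]
    exact mult_le_one ((monic_X_add_C (1 : ℤ)).pow 5) c 1 (by simp)
  have hline : ∀ y y' : Fin tbl.rank → ℤ, y ᵥ* M = y → y' ᵥ* M = y' → ∀ i j, y i * y' j = y j * y' i :=
    fun y y' hy hy' => proportional M hmult (by rw [hy, one_smul]) (by rw [hy', one_smul])
  obtain ⟨g, -, i, -, hi⟩ := line_case valid hv hM2 (no_neg hv) hline words (by decide +kernel)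
    (by decide +kernel)
  have hex : ∀ i : Fin tbl.rank, ∃ j : Fin tbl.rank, j ≠ i ∧
      wapp tbl ((words i).map Fin.val) (tbl.simple j.val) ≠ tbl.neg (tbl.simple j.val) := by decide +kernel
  obtain ⟨j, hj, hj'⟩ := hex i
  exact hj' (hi j hj)

theorem four {v : Equiv.Perm (Fin tbl.n)} (hv : v ∈ tbl.WP valid) :
    ¬ cyclotomic 4 ℤ ^ 3 ∣ (mat tbl valid v).charpoly := by
  intro h
  have hr : tbl.rank = 6 := rfl
  have ht : (4 : ℕ).totient = 2 := by decide
  rcases cofactor _ (mat_orderOf valid hv) h with ⟨-, hp⟩ | ⟨e, e'⟩ | ⟨c, -, e, -⟩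
  rotate_left
  · rw [hr, ht] at e e'; omega
  · rw [hr, ht] at e; omega
  have h1 := aeval_kill valid hv (Q := cyclotomic 4 ℤ) (k := 3) (by norm_num) hp.dvd
  rw [show cyclotomic 4 ℤ = cyclotomic (2 ^ (1 + 1)) ℤ from rfl, cyclotomic_prime_pow_eq_geom_sum Nat.prime_two] at h1
  simp only [Finset.sum_range_succ, Finset.sum_range_zero, zero_add, pow_zero, pow_one, map_add, map_one,
    map_pow, aeval_X] at h1
  refine no_neg (mul_mem hv hv) ?_
  rw [mat_mul valid hv, ← sq]
  exact eq_neg_of_add_eq_zero_left ((add_comm _ _).trans h1)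

theorem six {v : Equiv.Perm (Fin tbl.n)} (hv : v ∈ tbl.WP valid) :
    ¬ cyclotomic 6 ℤ ^ 3 ∣ (mat tbl valid v).charpoly := by
  intro h
  have hr : tbl.rank = 6 := rfl
  have ht : (6 : ℕ).totient = 2 := by decide
  rcases cofactor _ (mat_orderOf valid hv) h with ⟨-, hp⟩ | ⟨e, e'⟩ | ⟨c, -, e, -⟩
  rotate_left
  · rw [hr, ht] at e e'; omega
  · rw [hr, ht] at e; omega
  have h1 := aeval_kill valid hv (Q := cyclotomic 6 ℤ) (k := 3) (by norm_num) hp.dvd
  simp only [cyclotomic_six, map_add, map_sub, map_one, map_pow, aeval_X] at h1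
  refine no_neg (pow_mem hv 3) ?_
  rw [mat_pow valid hv]
  refine eq_neg_of_add_eq_zero_left ?_
  have h2 : mat tbl valid v ^ 3 + 1 = (mat tbl valid v ^ 2 - mat tbl valid v + 1) * (mat tbl valid v + 1) := by
    noncomm_ring
  rw [h2, h1, zero_mul]

end E6

namespace D4

open Data.D4

def w01 : List (Fin tbl.rank) := [⟨0, by decide⟩, ⟨1, by decide⟩]

def m2 : Fin tbl.rank := ⟨2, by decide⟩

def m2' : Fin tbl.rank := ⟨0, by decide⟩

theorem no_three {v : Equiv.Perm (Fin tbl.n)} (hv : v ∈ tbl.WP valid)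
    (h : mat tbl valid v * mat tbl valid v + mat tbl valid v + 1 = 0) : False := by
  refine order_three valid hv h ?_ (l := w01) (m := m2) (by decide) ?_ ?_
  · have hc : Nat.card (tbl.WP valid) = 192 := by
      have := Tbl.card_WP valid steps_length chkSteps
      rw [show ((steps).map fun L => (L.length : ℤ)).prod = 192 by decide +kernel] at this
      exact_mod_cast this
    rw [hc, show (192 : ℕ) = 3 ^ 1 * 64 from rfl, Nat.factorization_mul (by norm_num) (by norm_num),
      Finsupp.add_apply, Nat.Prime.factorization_pow Nat.prime_three, Finsupp.single_eq_same,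
      Nat.factorization_eq_zero_of_not_dvd (by norm_num)]
  · intro e
    have h1 := congrArg (fun σ : Equiv.Perm (Fin tbl.n) => (σ (tbl.simpF valid m2')).val) e
    simp only [Equiv.Perm.one_apply, pw_wapp valid] at h1
    revert h1
    decide +kernel
  · refine Equiv.ext fun s => Fin.ext ?_
    simp only [pow_succ, pow_zero, one_mul, Equiv.Perm.mul_apply, Equiv.Perm.one_apply, pw_wapp valid]
    revert s
    decide +kernel

theorem three {v : Equiv.Perm (Fin tbl.n)} (hv : v ∈ tbl.WP valid) :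
    ¬ cyclotomic 3 ℤ ^ 2 ∣ (mat tbl valid v).charpoly := by
  intro h
  have hr : tbl.rank = 4 := rfl
  have ht : (3 : ℕ).totient = 2 := by decide
  rcases cofactor _ (mat_orderOf valid hv) h with ⟨-, hp⟩ | ⟨e, e'⟩ | ⟨c, -, e, -⟩
  rotate_left
  · rw [hr, ht] at e e'; omega
  · rw [hr, ht] at e; omega
  have h1 := aeval_kill valid hv (Q := cyclotomic 3 ℤ) (k := 2) (by norm_num) hp.dvd
  simp only [cyclotomic_three, map_add, map_one, sq, map_mul, aeval_X] at h1
  exact no_three hv h1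

theorem six {v : Equiv.Perm (Fin tbl.n)} (hv : v ∈ tbl.WP valid) :
    ¬ cyclotomic 6 ℤ ^ 2 ∣ (mat tbl valid v).charpoly := by
  intro h
  have hr : tbl.rank = 4 := rfl
  have ht : (6 : ℕ).totient = 2 := by decide
  rcases cofactor _ (mat_orderOf valid hv) h with ⟨-, hp⟩ | ⟨e, e'⟩ | ⟨c, -, e, -⟩
  rotate_left
  · rw [hr, ht] at e e'; omega
  · rw [hr, ht] at e; omega
  have h1 := aeval_kill valid hv (Q := cyclotomic 6 ℤ) (k := 2) (by norm_num) hp.dvd
  simp only [cyclotomic_six, map_add, map_sub, map_one, map_pow, aeval_X] at h1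
  refine no_three (mul_mem hv hv) ?_
  rw [mat_mul valid hv]
  set M := mat tbl valid v
  have h2 : M * M * (M * M) + M * M + 1 = (M ^ 2 - M + 1) * (M ^ 2 + M + 1) := by noncomm_ring
  rw [h2, h1, zero_mul]

end D4

namespace E7

open Data.E7

def words : Fin tbl.rank → List (Fin tbl.rank) :=
  (![[1, 2, 3, 1, 2, 3, 4, 3, 1, 2, 3, 4, 5, 4, 3, 1, 2, 3, 4, 5, 6, 5, 4, 3, 1, 2, 3, 4, 5, 6],
    [0, 2, 0, 3, 2, 0, 4, 3, 2, 0, 5, 4, 3, 2, 0, 6, 5, 4, 3, 2, 0],
    [0, 1, 3, 1, 4, 3, 1, 5, 4, 3, 1, 6, 5, 4, 3, 1],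
    [0, 1, 2, 0, 4, 5, 4, 6, 5, 4],
    [0, 1, 2, 0, 3, 1, 2, 0, 3, 2, 5, 6, 5],
    [0, 1, 2, 0, 3, 1, 2, 0, 3, 2, 4, 3, 1, 2, 0, 3, 2, 4, 3, 1, 6],
    [0, 1, 2, 0, 3, 1, 2, 0, 3, 2, 4, 3, 1, 2, 0, 3, 2, 4, 3, 1, 5, 4, 3, 1, 2, 0, 3, 2, 4, 3, 1, 5, 4, 3, 2, 0]] : Fin 7 → List (Fin 7))

def longest : List (Fin tbl.rank) :=
  ([0, 1, 2, 0, 3, 1, 2, 0, 3, 2, 4, 3, 1, 2, 0, 3, 2, 4, 3, 1, 5, 4, 3, 1, 2, 0, 3, 2, 4, 3, 1, 5, 4, 3, 2, 0,
    6, 5, 4, 3, 1, 2, 0, 3, 2, 4, 3, 1, 5, 4, 3, 2, 0, 6, 5, 4, 3, 1, 2, 3, 4, 5, 6] : List (Fin 7))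

theorem sign_det {u : Equiv.Perm (Fin tbl.n)} (hu : u ∈ tbl.WP valid) :
    ((Equiv.Perm.sign u : ℤˣ) : ℤ) = (mat tbl valid u).det := by
  induction hu using Subgroup.closure_induction with
  | mem x hx =>
    obtain ⟨i, rfl⟩ := hx
    rw [det_refP valid i ((show ∀ i : Fin tbl.rank, tbl.ca i (tbl.simple i) = 2 by decide +kernel) i)]
    have h2 := sign_eq (tbl.refP valid i) even_two two_pos (k := 33) (fun c hc => by
      rw [Equiv.Perm.cycleType_of_pow_prime_eq_one (p := 2) (by rw [sq, refP_mul_self valid i])] at hc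
      exact Multiset.eq_of_mem_replicate hc) (by
      have hs : (tbl.refP valid i).support =
          Finset.univ.filter fun s : Fin tbl.n => tbl.refl i.val s.val ≠ s.val := by
        ext s
        rw [Equiv.Perm.mem_support, Finset.mem_filter, ne_eq, ne_eq, Fin.ext_iff, refP_apply valid]
        simp
      rw [hs]
      exact (show ∀ i : Fin tbl.rank,
        (Finset.univ.filter fun s : Fin tbl.n => tbl.refl i.val s.val ≠ s.val).card = 2 * 33 by decide +kernel) i)
    rw [h2]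
    norm_num
  | one => simp [mat_one]
  | mul x y hx _ hx' hy' => rw [map_mul, Units.val_mul, hx', hy', mat_mul valid hx, Matrix.det_mul]
  | inv x hx hx' =>
    have h1 : mat tbl valid x * mat tbl valid x⁻¹ = 1 := by
      rw [← mat_mul valid hx, mul_inv_cancel, mat_one]
    have h2 := congrArg Matrix.det h1
    rw [Matrix.det_mul, Matrix.det_one, ← hx'] at h2
    rcases Int.units_eq_one_or (Equiv.Perm.sign x) with hs | hs <;>
      simp only [map_inv, hs, inv_one, Units.val_one, Units.val_neg, inv_neg, one_mul, neg_mul] at h2 ⊢ <;>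
      omega

def i0 : Fin tbl.rank := ⟨0, by decide⟩

/-- The highest root. -/
def θ : Fin tbl.n := ⟨125, by decide +kernel⟩

theorem no_square {u : Equiv.Perm (Fin tbl.n)} (hu : u ∈ tbl.WP valid)
    (hz : u * u = tbl.pw valid (words i0)) (hθ : u θ = θ) (hz2 : u ^ 4 = 1) {c : ℤ}
    (hdet : (mat tbl valid u).det = c)
    (hkill : (mat tbl valid u * mat tbl valid u + 1) * (mat tbl valid u - c • (1 : Matrix _ _ ℤ)) = 0) : False := by
  set M := mat tbl valid u
  set x : Fin tbl.rank → ℤ := fun j => tbl.co θ.val j.val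
  have hx : M *ᵥ x = x := by
    have := mat_mulVec valid hu θ
    rw [hθ] at this
    exact this
  have hc : c = 1 := by
    have h1 : ((M * M + 1) * (M - c • (1 : Matrix _ _ ℤ))) *ᵥ x = (2 * (1 - c)) • x := by
      rw [← Matrix.mulVec_mulVec, Matrix.sub_mulVec, Matrix.smul_mulVec, Matrix.one_mulVec, hx,
        Matrix.mulVec_sub, Matrix.mulVec_smul, Matrix.add_mulVec, Matrix.one_mulVec, ← Matrix.mulVec_mulVec,
        hx, hx]
      module
    rw [hkill, Matrix.zero_mulVec, eq_comm, smul_eq_zero] at h1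
    rcases h1 with h1 | h1
    · omega
    · exact absurd h1 (co_ne_zero valid θ)
  have hfix : ∀ s : Fin tbl.n, wapp tbl ((words i0).map Fin.val) s.val ≠ s.val ↔ s ≠ θ ∧ s ≠ tbl.negF θ := by
    decide +kernel
  have hzs : ∀ s, u (u s) = s ↔ s = θ ∨ s = tbl.negF θ := by
    intro s
    have h1 := hfix s
    rw [← Equiv.Perm.mul_apply, hz, Fin.ext_iff, pw_wapp valid]
    constructor
    · intro h2
      by_contra h3
      rw [not_or] at h3
      exact h1.2 h3 h2
    · intro h2
      by_contra h3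
      rcases h2 with h2 | h2
      · exact (h1.1 h3).1 h2
      · exact (h1.1 h3).2 h2
  have hθ' : u (tbl.negF θ) = tbl.negF θ := by rw [WP_negF valid hu, hθ]
  have hsupp : u.support = Finset.univ.filter fun s : Fin tbl.n => s ≠ θ ∧ s ≠ tbl.negF θ := by
    ext s
    rw [Equiv.Perm.mem_support, Finset.mem_filter]
    refine ⟨fun h => ⟨Finset.mem_univ _, ?_, ?_⟩, fun ⟨_, h1, h2⟩ h => ?_⟩
    · rintro rfl; exact h hθ
    · rintro rfl; exact h hθ'
    · rcases (hzs s).1 (by rw [h, h]) with e | e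
      · exact h1 e
      · exact h2 e
  have hsign : ((Equiv.Perm.sign u : ℤˣ) : ℤ) = (-1) ^ 31 := by
    refine sign_eq u (n := 4) (by decide) (by norm_num) (fun m hm => ?_) (by rw [hsupp]; decide +kernel)
    have h2 := Equiv.Perm.two_le_of_mem_cycleType hm
    have h4 := (Equiv.Perm.dvd_of_mem_cycleType hm).trans (orderOf_dvd_of_pow_eq_one hz2)
    have h5 := Nat.le_of_dvd (by norm_num) h4
    by_contra hne
    have hm2 : m = 2 := by interval_cases m <;> omega
    subst hm2
    rw [Equiv.Perm.cycleType_def, Multiset.mem_map] at hm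
    obtain ⟨σ, hσ, hσ2⟩ := hm
    rw [← Finset.mem_def, Equiv.Perm.mem_cycleFactorsFinset_iff] at hσ
    obtain ⟨s, hs⟩ := Finset.card_pos.1 (show 0 < σ.support.card by rw [show σ.support.card = 2 from hσ2]; omega)
    have hsq : σ * σ = 1 := by
      rw [← sq, ← show σ.support.card = 2 from hσ2, ← hσ.1.orderOf, pow_orderOf_eq_one]
    have h6 : u (u s) = s := by
      rw [← hσ.2 s hs, ← hσ.2 (σ s) (Equiv.Perm.apply_mem_support.2 hs), ← Equiv.Perm.mul_apply, hsq,
        Equiv.Perm.one_apply]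
    have h7 : s ∈ u.support := by
      rw [Equiv.Perm.mem_support, ← hσ.2 s hs]
      exact Equiv.Perm.mem_support.1 hs
    rw [hsupp, Finset.mem_filter] at h7
    rcases (hzs s).1 h6 with e | e
    · exact h7.2.1 e
    · exact h7.2.2 e
  rw [sign_det hu, hdet, hc] at hsign
  norm_num at hsign

theorem negF_negF (s : Fin tbl.n) : tbl.negF (tbl.negF s) = s :=
  Fin.ext (by have := s.2; show tbl.n - 1 - (tbl.n - 1 - _) = _; omega)

theorem longest_negates : ∀ s : Fin tbl.n, wapp tbl (longest.map Fin.val) s.val = (tbl.negF s).val := by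
  decide +kernel

theorem exists_minus_one : ∃ z0 ∈ tbl.WP valid, (∀ s, z0 s = tbl.negF s) ∧ mat tbl valid z0 = -1 := by
  have hz0 : ∀ s : Fin tbl.n, tbl.pw valid longest s = tbl.negF s := fun s =>
    Fin.ext ((pw_wapp valid longest s).trans (longest_negates s))
  refine ⟨tbl.pw valid longest, pw_mem valid _, hz0, Matrix.ext fun a b => ?_⟩
  have := congrFun (mat_col valid (pw_mem valid longest) b) a
  rw [Matrix.mulVec_single_one] at this
  simp only [Matrix.col_apply] at this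
  rw [this, hz0, negF, co_neg valid (Fin.isLt _) a.2, show (tbl.simpF valid b).val = tbl.simple b.val from rfl,
    co_simple valid b.2 a.2, Matrix.neg_apply, Matrix.one_apply]
  simp [Fin.ext_iff]

theorem four {w : Equiv.Perm (Fin tbl.n)} (hw : w ∈ tbl.WP valid) :
    ¬ cyclotomic 4 ℤ ^ 3 ∣ (mat tbl valid w).charpoly := by
  intro h
  have hr : tbl.rank = 7 := rfl
  have ht : (4 : ℕ).totient = 2 := by decide
  rcases cofactor _ (mat_orderOf valid hw) h with ⟨e, -⟩ | ⟨e, e'⟩ | ⟨c, hc, -, hp⟩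
  · rw [hr, ht] at e; omega
  · rw [hr, ht] at e e'; omega
  have hc1 := int_sq (orderOf_pos w) hc
  set M := mat tbl valid w
  have h4e : cyclotomic 4 ℤ = X ^ 2 + 1 := by
    rw [show (4 : ℕ) = 2 ^ (1 + 1) from rfl, cyclotomic_prime_pow_eq_geom_sum Nat.prime_two]
    simp [Finset.sum_range_succ, add_comm]
  rw [h4e] at hp
  have hkill : (M * M + 1) * (M - c • (1 : Matrix _ _ ℤ)) = 0 :=
    kill_four M (mat_orderOf valid hw) (orderOf_pos w) c hp
  have hdet : M.det = c := by
    rw [Matrix.det_eq_sign_charpoly_coeff, Fintype.card_fin, hp, hr, Polynomial.coeff_zero_eq_eval_zero]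
    simp
  have hc2 : c * c = 1 := by rcases hc1 with rfl | rfl <;> norm_num
  have hv2 : mat tbl valid (w * w) * mat tbl valid (w * w) = 1 := by
    rw [mat_mul valid hw]
    exact pow_four M c hc2 hkill
  have hne : mat tbl valid (w * w) ≠ -1 := by
    intro e
    have := congrArg Matrix.det e
    rw [mat_mul valid hw, Matrix.det_mul, hdet, hc2, Matrix.det_neg, Matrix.det_one, Fintype.card_fin, hr] at this
    norm_num at this
  have hmult : rootMultiplicity ((c : ℤ) : ℚ) (M.charpoly.map (Int.castRingHom ℚ)) ≤ 1 := by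
    rw [hp]
    exact mult_le_one ((monic_X_pow_add_C (1 : ℤ) two_ne_zero).pow 3) c c
      (by rcases hc1 with rfl | rfl <;> simp <;> norm_num)
  have hline : ∀ y y' : Fin tbl.rank → ℤ, y ᵥ* mat tbl valid (w * w) = y → y' ᵥ* mat tbl valid (w * w) = y' →
      ∀ i j, y i * y' j = y j * y' i := by
    have key : ∀ y : Fin tbl.rank → ℤ, y ᵥ* mat tbl valid (w * w) = y → y ᵥ* M = c • y := by
      intro y hy
      rw [mat_mul valid hw, ← Matrix.vecMul_vecMul] at hy
      have h1 := congrArg (fun A => y ᵥ* A) hkill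
      have e : y ᵥ* (M * M + 1) = y + y := by
        rw [Matrix.vecMul_add, ← Matrix.vecMul_vecMul, hy, Matrix.vecMul_one]
      rw [← Matrix.vecMul_vecMul, e, Matrix.vecMul_sub, Matrix.vecMul_smul, Matrix.vecMul_one,
        Matrix.add_vecMul, Matrix.vecMul_zero] at h1
      funext k
      have := congrFun h1 k
      simp only [Pi.sub_apply, Pi.add_apply, Pi.smul_apply, smul_eq_mul, Pi.zero_apply] at this ⊢
      rw [mul_add] at this; omega
    exact fun y y' hy hy' => proportional M hmult (key y hy) (key y' hy')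
  obtain ⟨g, hg, i, hgv, hi⟩ := line_case valid (mul_mem hw hw) hv2 hne hline words (by decide +kernel)
    (by decide +kernel)
  have hex : ∀ i : Fin tbl.rank, i ≠ i0 → ∃ j : Fin tbl.rank, j ≠ i ∧
      wapp tbl ((words i).map Fin.val) (tbl.simple j.val) ≠ tbl.neg (tbl.simple j.val) := by decide +kernel
  have hi0 : i = i0 := by
    by_contra hi'
    obtain ⟨j, hj, hj'⟩ := hex i hi'
    exact hj' (hi j hj)
  subst hi0
  set u := g⁻¹ * w * g with hudef
  have hu : u ∈ tbl.WP valid := mul_mem (mul_mem (inv_mem hg) hw) hg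
  have huu : u * u = tbl.pw valid (words i0) := by rw [← hgv, hudef]; group
  have hu4 : u ^ 4 = 1 := by
    have h1 : (w * w) * (w * w) = 1 := mat_inj valid (mul_mem (mul_mem hw hw) (mul_mem hw hw)) (one_mem _)
      (by rw [mat_mul valid (mul_mem hw hw), hv2, mat_one])
    rw [hudef, show (g⁻¹ * w * g) ^ 4 = g⁻¹ * ((w * w) * (w * w)) * g by
      simp only [pow_succ, pow_zero, one_mul]; group, h1]
    group
  set G := mat tbl valid g
  set G' := mat tbl valid g⁻¹
  have hGG : G * G' = 1 := by rw [← mat_mul valid hg, mul_inv_cancel, mat_one]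
  have hGG' : G' * G = 1 := by rw [← mat_mul valid (inv_mem hg), inv_mul_cancel, mat_one]
  have hMu : mat tbl valid u = G' * M * G := by
    rw [hudef, mat_mul valid (mul_mem (inv_mem hg) hw), mat_mul valid (inv_mem hg)]
  have hdu : (mat tbl valid u).det = c := by
    rw [hMu, Matrix.det_mul, Matrix.det_mul, hdet, mul_comm G'.det, mul_assoc, ← Matrix.det_mul, hGG',
      Matrix.det_one, mul_one]
  have hku : (mat tbl valid u * mat tbl valid u + 1) * (mat tbl valid u - c • (1 : Matrix _ _ ℤ)) = 0 := by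
    rw [hMu]
    exact conj_kill G G' M c hGG' hGG hkill
  have hfix : ∀ s : Fin tbl.n, wapp tbl ((words i0).map Fin.val) s.val = s.val →
      s = θ ∨ s = tbl.negF θ := by decide +kernel
  have huθ : u θ = θ ∨ u θ = tbl.negF θ := by
    refine hfix _ ?_
    have hzθ : u (u θ) = θ := by
      rw [← Equiv.Perm.mul_apply, huu]
      exact Fin.ext (by rw [pw_wapp valid]; decide +kernel)
    rw [← pw_wapp valid, ← huu, Equiv.Perm.mul_apply, hzθ]
  clear_value u
  rcases huθ with hθ | hθ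
  · exact no_square hu huu hθ hu4 hdu hku
  obtain ⟨z0, hz0mem, hz0, hMz⟩ := exists_minus_one
  have hcomm : z0 * u = u * z0 := Equiv.ext fun s => by
    show z0 (u s) = u (z0 s)
    rw [hz0 (u s), hz0 s, WP_negF valid hu]
  have hz00 : z0 * z0 = 1 := Equiv.ext fun s => by
    rw [Equiv.Perm.mul_apply, hz0 s, hz0 (tbl.negF s), Equiv.Perm.one_apply]
    exact negF_negF s
  refine no_square (u := u * z0) (mul_mem hu hz0mem) ?_ ?_ ?_ (c := -c) ?_ ?_
  · rw [mul_assoc, ← mul_assoc z0, hcomm, mul_assoc u z0, hz00, mul_one, huu]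
  · rw [Equiv.Perm.mul_apply, hz0, WP_negF valid hu, hθ]
    exact Fin.ext (by decide +kernel)
  · rw [show (4 : ℕ) = 2 * 2 from rfl, pow_mul, sq (u * z0), mul_assoc, ← mul_assoc z0, hcomm, mul_assoc u z0,
      hz00, mul_one, ← sq, ← pow_mul]
    exact hu4
  · rw [mat_mul valid hu, hMz, Matrix.det_mul, hdu, Matrix.det_neg, Matrix.det_one, Fintype.card_fin, hr]
    ring
  · rw [mat_mul valid hu, hMz]
    exact neg_kill _ c hku

end E7

end CfsgLib.Chevalley.SylowTorus
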