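import Cfsg.Agent.Lib.Chevalley.SylowTorus.Main
import Cfsg.Agent.Lib.Chevalley.SylowTorus.Cases
import Cfsg.Agent.Lib.Chevalley.Orders

/-!
Sylow subgroups of Chevalley groups for primes away from the characteristic and the Weyl group.
-/

set_option autoImplicit false

namespace CfsgLib.Chevalley.SylowTorus

open Tbl hiding X
open CoxeterTorus Polynomial

theorem not_dvd_natAbs_eval {q r k d : ℕ} [Fact r.Prime] (hd : orderOf (q : ZMod r) = d) (hk : ¬ r ∣ k)
    (hne : k ≠ d) : ¬ r ∣ ((cyclotomic k ℤ).eval (q : ℤ)).natAbs := by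
  intro h
  have : NeZero (k : ZMod r) := ⟨fun h => hk ((ZMod.natCast_eq_zero_iff k r).1 h)⟩
  rw [← Int.natCast_dvd, ← ZMod.intCast_zmod_eq_zero_iff_dvd] at h
  have h1 : (cyclotomic k (ZMod r)).IsRoot (q : ZMod r) := by
    rw [IsRoot, ← map_cyclotomic k (Int.castRingHom (ZMod r)), eval_map,
      ← map_natCast (Int.castRingHom (ZMod r)) q, eval₂_hom]
    exact h
  exact hne (((isRoot_cyclotomic_iff.1 h1).eq_orderOf).trans hd)

theorem factorization_pow_sub_one {q r d e : ℕ} [Fact r.Prime] (hq : 1 < q) (he : 0 < e) (hre : ¬ r ∣ e)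
    (hd : orderOf (q : ZMod r) = d) :
    (q ^ e - 1).factorization r =
      if d ∣ e then padicValNat r ((cyclotomic d ℤ).eval (q : ℤ)).natAbs else 0 := by
  classical
  have hne : q ^ e - 1 ≠ 0 := by have := Nat.one_lt_pow he.ne' hq; omega
  have h1 : q ^ e - 1 = ∏ k ∈ e.divisors, ((cyclotomic k ℤ).eval (q : ℤ)).natAbs := by
    rw [show ∀ s : Finset ℕ, ∀ f : ℕ → ℤ, ∏ k ∈ s, (f k).natAbs = (∏ k ∈ s, f k).natAbs from
      fun s f => (map_prod Int.natAbsHom f s).symm, ← eval_prod, prod_cyclotomic_eq_X_pow_sub_one he ℤ]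
    simp only [eval_sub, eval_pow, eval_X, eval_one]
    rw [← Nat.cast_pow]
    omega
  have hfac : ∀ k ∈ e.divisors, ((cyclotomic k ℤ).eval (q : ℤ)).natAbs ≠ 0 := by
    intro k hk h0
    rw [h1, Finset.prod_eq_zero hk h0] at hne
    exact hne rfl
  have hz : ∀ k ∈ e.divisors, k ≠ d → (((cyclotomic k ℤ).eval (q : ℤ)).natAbs).factorization r = 0 :=
    fun k hk hkd => Nat.factorization_eq_zero_of_not_dvd (not_dvd_natAbs_eval hd
      (fun h => hre (h.trans (Nat.dvd_of_mem_divisors hk))) hkd)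
  rw [h1, Nat.factorization_prod_apply hfac]
  split_ifs with hde
  · rw [Finset.sum_eq_single d hz (fun h => absurd (Nat.mem_divisors.2 ⟨hde, he.ne'⟩) h),
      Nat.factorization_def _ (Fact.out : r.Prime)]
  · refine Finset.sum_eq_zero fun k hk => hz k hk ?_
    rintro rfl
    exact hde (Nat.dvd_of_mem_divisors hk)

theorem factorization_list {q r d v : ℕ} [Fact r.Prime] (hq : 1 < q) : ∀ L : List ℕ, (∀ e ∈ L, 0 < e) →
    (∀ e ∈ L, (q ^ e - 1).factorization r = if d ∣ e then v else 0) →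
    ((L.map fun e => q ^ e - 1).prod).factorization r = (L.filter fun e => d ∣ e).length * v ∧
      (L.map fun e => q ^ e - 1).prod ≠ 0 := by
  intro L
  induction L with
  | nil => simp
  | cons e L ih =>
    intro h0 h
    rw [List.forall_mem_cons] at h0 h
    obtain ⟨h1, h2⟩ := ih h0.2 h.2
    have hne : q ^ e - 1 ≠ 0 := by have := Nat.one_lt_pow h0.1.ne' hq; omega
    refine ⟨?_, by rw [List.map_cons, List.prod_cons]; exact mul_ne_zero hne h2⟩
    rw [List.map_cons, List.prod_cons, Nat.factorization_mul hne h2, Finsupp.add_apply, h1, h.1,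
      List.filter_cons]
    by_cases hde : d ∣ e
    · simp [hde]; ring
    · simp [hde]

/-- The common theorem. -/
theorem sylow_case {T : Tbl} (hT : T.Valid) (hC : T.chkComm = true)
    {U U' V V' : List (List ℤ)} {ds : List ℕ} (hsm : T.chkSmith U U' V V' ds = true)
    {steps : List (List Rep)} {degs : List ℕ} (hl : steps.length = T.rank)
    (hs : ∀ j < T.rank, T.chkStep j (steps.getD j []) = true) (hp : chkPoly steps degs = true)
    (hpos : ∀ e ∈ degs, 0 < e) (hds : ∀ i : Fin T.rank, ds.getD i.val 0 ∣ degs.prod)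
    (hWd : (steps.map fun L => L.length).prod = degs.prod)
    (exc : List ℕ) (hdeg : ∀ e ∈ degs, ∀ d ∈ e.divisors,
      d.totient * ((degs.filter fun e => d ∣ e).length + 1) ≤ T.rank → d ∈ exc)
    (hexc : ∀ w ∈ T.WP hT, ∀ d ∈ exc,
      ¬ cyclotomic d ℤ ^ ((degs.filter fun e => d ∣ e).length + 1) ∣ (mat T hT w).charpoly)
    {D : Cfsg.Lie.ChevalleyDatum} (hD : T.datum = D)
    {F : Type*} [Field F] [Fintype F] {q : ℕ} (hq : Fintype.card F = q) (r : ℕ) [Fact r.Prime]
    (hrq : ¬ r ∣ q) (hrW : ¬ r ∣ degs.prod) (hrG : r ∣ Nat.card ↥(D.group F)) (P : Sylow r ↥(D.group F)) :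
    Nonempty (↥(P : Subgroup ↥(D.group F)) ≃*
      (Fin (degs.filter (fun e => orderOf (q : ZMod r) ∣ e)).length →
        Multiplicative (ZMod (r ^ padicValNat r ((cyclotomic (orderOf (q : ZMod r)) ℤ).eval (q : ℤ)).natAbs)))) := by
  subst hD
  classical
  have hr : r.Prime := Fact.out
  have hq2 : 1 < q := hq ▸ Fintype.one_lt_card
  set d := orderOf (q : ZMod r) with hddef
  have hq0 : (q : ZMod r) ≠ 0 := fun h => hrq ((ZMod.natCast_eq_zero_iff q r).1 h)
  have hdr : d ∣ r - 1 := ZMod.orderOf_dvd_card_sub_one hq0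
  have hd0 : 0 < d := Nat.pos_of_dvd_of_pos hdr (by have := hr.two_le; omega)
  have hrd : ¬ r ∣ d := fun h => by
    have := Nat.le_of_dvd (by have := hr.two_le; omega) hdr
    have := Nat.le_of_dvd hd0 h
    omega
  have hre : ∀ e ∈ degs, ¬ r ∣ e := fun e he h => hrW (h.trans (List.dvd_prod he))
  set v := padicValNat r ((cyclotomic d ℤ).eval (q : ℤ)).natAbs
  set a := (degs.filter (fun e => d ∣ e)).length with hadef
  have hW : Nat.card (T.WP hT) = degs.prod := by
    refine Int.natCast_inj.mp ((Tbl.card_WP hT hl hs).trans ?_)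
    rw [← hWd, Nat.cast_list_prod, List.map_map]
    rfl
  have hgo := group_order hT hC hq hsm hl hs hp
  obtain ⟨hprod, hprod0⟩ := factorization_list (d := d) (v := v) hq2 degs hpos fun e he =>
    factorization_pow_sub_one hq2 (hpos e he) (hre e he) rfl
  have hgcd : ¬ r ∣ ∏ i : Fin T.rank, Nat.gcd (q - 1) (ds.getD i.val 0) := by
    rw [Prime.dvd_finsetProd_iff hr.prime]
    rintro ⟨i, -, hi⟩
    exact hrW ((hi.trans (Nat.gcd_dvd_right _ _)).trans (hds i))
  have hG : (Nat.card ↥(T.datum.group F)).factorization r = a * v := by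
    have h1 := congrArg (fun n : ℕ => n.factorization r) hgo
    rw [Nat.factorization_mul (fun h => hgcd (by rw [h]; exact dvd_zero r)) Nat.card_pos.ne',
      Nat.factorization_mul (pow_ne_zero _ (by omega)) hprod0, Finsupp.add_apply, Finsupp.add_apply,
      Nat.factorization_eq_zero_of_not_dvd hgcd,
      Nat.factorization_eq_zero_of_not_dvd (fun h => hrq (hr.dvd_of_dvd_pow h)), zero_add, zero_add, hprod] at h1
    exact h1
  have hav : 0 < a * v := hG ▸ hr.factorization_pos_of_dvd Nat.card_pos.ne' hrG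
  obtain ⟨e, he⟩ : ∃ e, e ∈ degs.filter fun e => d ∣ e :=
    List.exists_mem_of_length_pos (Nat.pos_of_mul_pos_right hav)
  rw [List.mem_filter, decide_eq_true_eq] at he
  refine sylow_homocyclic hT hC hq hd0 (Nat.pos_of_mul_pos_left hav) ?_
    (by rw [hW]; exact hr.coprime_iff_not_dvd.2 hrW) hG (fun w hw => ?_) P
  · rw [factorization_pow_sub_one hq2 hd0 hrd rfl, if_pos dvd_rfl]
  · by_contra hlt
    rw [not_le] at hlt
    have hN : ¬ r ∣ orderOf w := fun h => hrW (hW ▸ h.trans (Subgroup.orderOf_dvd_natCard _ hw))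
    have h1 := cyclotomic_pow_dvd (mat T hT w) (mat_orderOf hT hw) hN (IsPrimitiveRoot.orderOf (q : ZMod r)) hrd hlt
    refine hexc w hw d (hdeg e he.1 d (Nat.mem_divisors.2 ⟨he.2, (hpos e he.1).ne'⟩) ?_) h1
    rw [mul_comm]
    exact totient_le _ h1

end CfsgLib.Chevalley.SylowTorus
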