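import Cfsg.Agent.Lib.Chevalley.CoxeterTorus.Main

/-!
Sylow subgroups for primes not dividing the order of the Weyl group are homocyclic.
-/

set_option autoImplicit false

namespace CfsgLib.Chevalley.SylowTorus

open Tbl hiding X
open CoxeterTorus
open CfsgLib.KnownB.FieldAut (mapGL mapGL_inj map_torus map_group)
open scoped Matrix

/-- A finite abelian group of exponent dividing `r ^ v` with few elements of order `r`. -/
theorem homocyclic {G : Type*} [CommGroup G] [Finite G] {r a v : ℕ} [Fact r.Prime] (hv : 0 < v)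
    (hexp : ∀ g : G, g ^ r ^ v = 1) (htor : Nat.card {g : G // g ^ r = 1} ≤ r ^ a)
    (hcard : Nat.card G = r ^ (a * v)) :
    Nonempty (G ≃* (Fin a → Multiplicative (ZMod (r ^ v)))) := by
  classical
  have hr : r.Prime := Fact.out
  obtain ⟨ι, hι, n, hn, ⟨e⟩⟩ := CommGroup.equiv_prod_multiplicative_zmod_of_finite G
  have : ∀ i, NeZero (n i) := fun i => ⟨by have := hn i; omega⟩
  have hk : ∀ i, ∃ k, 1 ≤ k ∧ k ≤ v ∧ n i = r ^ k := by
    intro i
    have h1 := congrArg e (hexp (e.symm (Pi.mulSingle i (Multiplicative.ofAdd (1 : ZMod (n i))))))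
    rw [map_pow, MulEquiv.apply_symm_apply, map_one e] at h1
    have h2 := congrFun h1 i
    rw [Pi.pow_apply, Pi.mulSingle_eq_same, Pi.one_apply, ← ofAdd_nsmul, ofAdd_eq_one, nsmul_one,
      ZMod.natCast_eq_zero_iff] at h2
    obtain ⟨k, hkv, hk⟩ := (Nat.dvd_prime_pow hr).1 h2
    refine ⟨k, Nat.pos_of_ne_zero fun h0 => ?_, hkv, hk⟩
    have := hn i
    rw [hk, h0, pow_zero] at this
    omega
  choose k hk1 hkv hk using hk
  have hle : Fintype.card ι ≤ a := by
    refine (Nat.pow_le_pow_iff_right hr.one_lt).1 (le_trans ?_ htor)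
    let f : (ι → Fin r) → {g : G // g ^ r = 1} := fun c =>
      ⟨e.symm fun i => Multiplicative.ofAdd ((c i : ℕ) * r ^ (k i - 1) : ZMod (n i)), by
        rw [← map_pow, map_eq_one_iff _ e.symm.injective]
        funext i
        rw [Pi.pow_apply, Pi.one_apply, ← ofAdd_nsmul, ofAdd_eq_one, nsmul_eq_mul, ← Nat.cast_pow,
          ← Nat.cast_mul, ← Nat.cast_mul, ZMod.natCast_eq_zero_iff, hk i]
        obtain ⟨j, hj⟩ := Nat.exists_eq_add_of_le (hk1 i)
        exact ⟨(c i : ℕ), by rw [hj, Nat.add_sub_cancel_left, pow_add]; ring⟩⟩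
    have hf : Function.Injective f := by
      intro c c' h
      funext i
      have h1 := congrFun (e.symm.injective (congrArg Subtype.val h)) i
      rw [Multiplicative.ofAdd.injective.eq_iff, ← Nat.cast_pow, ← Nat.cast_mul, ← Nat.cast_mul,
        ZMod.natCast_eq_natCast_iff', hk i] at h1
      obtain ⟨j, hj⟩ := Nat.exists_eq_add_of_le (hk1 i)
      rw [hj, Nat.add_sub_cancel_left, pow_add, pow_one, Nat.mul_mod_mul_right, Nat.mul_mod_mul_right,
        Nat.mod_eq_of_lt (c i).2, Nat.mod_eq_of_lt (c' i).2] at h1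
      exact Fin.ext (Nat.eq_of_mul_eq_mul_right (pow_pos hr.pos _) h1)
    have := Nat.card_le_card_of_injective f hf
    rwa [Nat.card_eq_fintype_card, Fintype.card_fun, Fintype.card_fin] at this
  have hsum : ∑ i, k i = a * v := by
    refine Nat.pow_right_injective hr.two_le ?_
    show r ^ _ = r ^ _
    rw [← hcard, Nat.card_congr e.toEquiv, Nat.card_pi]
    rw [← Finset.prod_pow_eq_pow_sum]
    refine Finset.prod_congr rfl fun i _ => ?_
    rw [Nat.card_congr Multiplicative.toAdd, Nat.card_zmod, hk i]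
  have hsum' : ∑ i, k i ≤ ∑ _i : ι, v := Finset.sum_le_sum fun i _ => hkv i
  rw [Finset.sum_const, Finset.card_univ, smul_eq_mul, hsum] at hsum'
  have heq : Fintype.card ι = a := le_antisymm hle (Nat.le_of_mul_le_mul_right hsum' hv)
  have hall : ∀ i, n i = r ^ v := by
    intro i
    have h1 : ∑ i, k i = ∑ _i : ι, v := by rw [hsum, Finset.sum_const, Finset.card_univ, smul_eq_mul, heq]
    rw [hk i, (Finset.sum_eq_sum_iff_of_le fun i _ => hkv i).1 h1 i (Finset.mem_univ i)]
  have hι' := Fintype.equivFinOfCardEq heq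
  obtain rfl : n = fun _ => r ^ v := funext hall
  exact ⟨e.trans
    { toEquiv := hι'.arrowCongr (Equiv.refl _), map_mul' := fun x y => rfl }⟩

variable {T : Tbl} (hT : T.Valid)
include hT

omit hT in
theorem tCh_mul {K : Type*} [Field K] (f g : Fin T.rank → Kˣ) (s : ℕ) : tCh T (f * g) s = tCh T f s * tCh T g s := by
  simp [tCh, mul_zpow, Finset.prod_mul_distrib]

theorem tCh_of_torus_eq {K : Type*} [Field K] {f g : Fin T.rank → Kˣ} (h : torusHom T K f = torusHom T K g) (j : Fin T.rank) :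
    tCh T f (T.simple j.val) = tCh T g (T.simple j.val) := by
  have h1 : f * g⁻¹ ∈ (torusHom T K).ker := by
    rw [MonoidHom.mem_ker, map_mul, map_inv, h, mul_inv_cancel]
  rw [torusHom_ker hT, MonoidHom.mem_ker] at h1
  have h2 : tCh T (f * g⁻¹) (T.simple j.val) = 1 := congrFun h1 j
  rw [← mul_inv_cancel_right f g, mul_assoc, mul_comm g, ← mul_assoc, tCh_mul, h2, one_mul]

variable (hC : T.chkComm = true)
include hC

/-- The Weyl group element of an element carrying torus elements to torus elements. -/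
theorem twist_perm {K : Type*} [Field K] {y : GL T.I K} (hy : y ∈ T.datum.group K) :
    ∃ w ∈ T.WP hT, ∀ f g : Fin T.rank → Kˣ, torusHom T K g * y = y * torusHom T K f →
      ∀ s : Fin T.n, tCh T g (w s).val = tCh T f s.val := by
  obtain ⟨b, hb, n, hn, w, hw, hm, u, hu, rfl⟩ := exists_canonical hT hC hy
  obtain ⟨u1, hu1, h1, hh1, rfl⟩ := (mem_borel_iff hT).mp hb
  rw [posUnipotent_rootGen hT] at hu1
  set m := h1 * n with hmdef
  have hmN : m ∈ T.datum.monomialSubgroup K := mul_mem (diag_le_N hT hh1) hn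
  have hmm : T.Mono m w := by simpa using (mono_diag hT hh1).mul hm
  refine ⟨w, hw, fun f g h => ?_⟩
  set t := torusHom T K f with ht
  set t' := torusHom T K g with ht'
  have htd : t ∈ T.datum.diagonalSubgroup K := by rw [← torusHom_range hT]; exact ⟨f, rfl⟩
  have htd' : t' ∈ T.datum.diagonalSubgroup K := by rw [← torusHom_range hT]; exact ⟨g, rfl⟩
  have hv1 : t' * u1 * t'⁻¹ ∈ T.rootGen K (fun r => T.half ≤ r) :=
    (Subgroup.mem_normalizer_iff.mp (diag_le_normalizer hT _ htd') u1).mp hu1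
  have hv2 : t⁻¹ * u * t ∈ T.rootGen K (T.negSet w) := by
    have := (Subgroup.mem_normalizer_iff.mp (diag_le_normalizer hT (T.negSet w) (inv_mem htd)) u).mp hu
    rwa [inv_inv] at this
  have hd := conj_diag hT hmN htd
  have hB : ∀ v ∈ T.rootGen K (fun r => T.half ≤ r), ∀ k ∈ T.datum.diagonalSubgroup K,
      v * k ∈ T.datum.borelSubgroup K := fun v hv k hk =>
    mul_mem (Subgroup.mem_sup_left (by rw [posUnipotent_rootGen hT]; exact hv)) (Subgroup.mem_sup_right hk)
  have he : t' * u1 * t'⁻¹ * t' * m * u = u1 * (m * t * m⁻¹) * m * (t⁻¹ * u * t) := by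
    calc t' * u1 * t'⁻¹ * t' * m * u = t' * (u1 * h1 * n * u) := by rw [hmdef]; group
      _ = u1 * h1 * n * u * t := h
      _ = u1 * (m * t * m⁻¹) * m * (t⁻¹ * u * t) := by rw [hmdef]; group
  obtain ⟨-, h2⟩ := canonical_unique hT hC (hB _ hv1 _ htd') (hB _ hu1 _ hd) hmN hmN hmm hu hv2 he
  obtain ⟨eb, -⟩ := h2 hmm rfl
  have h3 : u1⁻¹ * (t' * u1 * t'⁻¹) ∈ (⊥ : Subgroup (GL T.I K)) := by
    rw [← pos_inf_diag (T := T) (F := K) hT, posUnipotent_rootGen hT]
    refine Subgroup.mem_inf.mpr ⟨mul_mem (inv_mem hu1) hv1, ?_⟩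
    have : u1⁻¹ * (t' * u1 * t'⁻¹) = m * t * m⁻¹ * t'⁻¹ := by
      rw [inv_mul_eq_iff_eq_mul, ← mul_assoc, ← eb, mul_inv_cancel_right]
    rw [this]
    exact mul_mem hd (inv_mem htd')
  rw [Subgroup.mem_bot, inv_mul_eq_one] at h3
  rw [← h3, mul_left_cancel_iff] at eb
  refine (mono_rel hT hmN hmm f g).1 ?_
  show m * t = t' * m
  rw [eb, inv_mul_cancel_right]

set_option maxHeartbeats 1000000 in
/-- Sylow `r`-subgroups are homocyclic, given a bound on the eigenspaces of the Weyl group. -/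
theorem sylow_homocyclic {F : Type*} [Field F] [Fintype F] {q r d v a : ℕ} [Fact r.Prime]
    (hF : Fintype.card F = q) (hd : 0 < d) (hv0 : 0 < v)
    (hv : (q ^ d - 1).factorization r = v) (hW : r.Coprime (Nat.card (T.WP hT)))
    (hG : (Nat.card ↥(T.datum.group F)).factorization r = a * v)
    (hb : ∀ w ∈ T.WP hT, Nat.card {y : Fin T.rank → ZMod r //
      y ᵥ* (mat T hT w).map (Int.castRingHom (ZMod r)) = (q : ZMod r) • y} ≤ r ^ a)
    (P : Sylow r ↥(T.datum.group F)) :
    Nonempty (↥(P : Subgroup ↥(T.datum.group F)) ≃* (Fin a → Multiplicative (ZMod (r ^ v)))) := by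
  classical
  have hr : r.Prime := Fact.out
  have : NeZero d := ⟨hd.ne'⟩
  have hq2 : 1 < q := hF ▸ Fintype.one_lt_card
  obtain ⟨p, hchar⟩ := CharP.exists F
  obtain ⟨e, hp, he⟩ := FiniteField.card F p
  have : Fact p.Prime := ⟨hp⟩
  let K := FiniteField.Extension F p d
  letI : Fintype K := Fintype.ofFinite K
  let ι : F →+* K := algebraMap F K
  have : CharP K p := charP_of_injective_algebraMap ι.injective p
  have hK : Fintype.card K = q ^ d := by
    rw [← Nat.card_eq_fintype_card, FiniteField.natCard_extension, Nat.card_eq_fintype_card, hF]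
  let σ : K →+* K := iterateFrobenius K p e
  have hσ : ∀ x : K, σ x = x ^ q := fun x => by rw [iterateFrobenius_def, ← he, hF]
  have hσι : ∀ g : GL T.I F, mapGL T σ (mapGL T ι g) = mapGL T ι g := fun g => by
    refine Units.ext (Matrix.ext fun i j => ?_)
    show σ (ι ((g : Matrix T.I T.I F) i j)) = ι ((g : Matrix T.I T.I F) i j)
    rw [hσ, ← map_pow, ← hF, FiniteField.pow_card]
  have hmap : ∀ f : Fin T.rank → Kˣ, mapGL T σ (torusHom T K f) = torusHom T K f ^ q := by
    intro f
    rw [map_torus, ← map_pow]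
    exact congrArg _ (funext fun i => Units.ext (by simp [hσ]))
  have hrK : r ∣ Fintype.card K - 1 := by
    rw [hK]
    exact Nat.dvd_of_factorization_pos (by rw [hv]; omega)
  have hrKu : r ∣ Nat.card Kˣ := by rwa [Nat.card_units, Nat.card_eq_fintype_card]
  -- conjugation into the torus
  let j : ↥(T.datum.group F) →* ↥(T.datum.group K) :=
    ((mapGL T ι).comp (T.datum.group F).subtype).codRestrict _ fun g => map_group ι hT ⟨_, g.2, rfl⟩
  have hj : Function.Injective j := fun g h e => Subtype.ext (mapGL_inj ι (congrArg Subtype.val e))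
  obtain ⟨P', hP'⟩ := Twist.ToriGen.exists_sylow_le (p := r)
    ((T.datum.diagonalSubgroup K).subgroupOf (T.datum.group K))
    (by rw [Nat.card_congr (Subgroup.subgroupOfEquivOfLe (diag_le_group hT)).toEquiv,
      card_flag_dvd hT hC hrK hW])
  obtain ⟨Q, hQ⟩ := (P.isPGroup'.map j).exists_le_sylow
  obtain ⟨x0, hx0⟩ := MulAction.exists_smul_eq ↥(T.datum.group K) Q P'
  set x : GL T.I K := (x0 : GL T.I K)
  let Φ : ↥(P : Subgroup ↥(T.datum.group F)) →* GL T.I K := (MulAut.conj x).toMonoidHom.comp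
    ((mapGL T ι).comp ((T.datum.group F).subtype.comp (P : Subgroup ↥(T.datum.group F)).subtype))
  have hΦinj : Function.Injective Φ := (MulAut.conj x).injective.comp
    ((mapGL_inj ι).comp ((Subgroup.subtype_injective _).comp (Subgroup.subtype_injective _)))
  have hrange : ∀ g, ∃ f, torusHom T K f = Φ g := by
    intro g
    rw [← MonoidHom.mem_range, torusHom_range hT]
    have h1 : x0 * j g * x0⁻¹ ∈ (P' : Subgroup ↥(T.datum.group K)) := by
      rw [← hx0]
      exact ⟨j g, hQ ⟨g, g.2, rfl⟩, rfl⟩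
    exact Subgroup.mem_subgroupOf.1 (hP' h1)
  choose f hf using hrange
  letI : CommGroup ↥(P : Subgroup ↥(T.datum.group F)) :=
    { (inferInstance : Group ↥(P : Subgroup ↥(T.datum.group F))) with
      mul_comm := fun g h => hΦinj (by rw [map_mul, map_mul, ← hf g, ← hf h, ← map_mul, mul_comm, map_mul]) }
  have hexp : ∀ g : ↥(P : Subgroup ↥(T.datum.group F)), g ^ r ^ v = 1 := by
    intro g
    obtain ⟨k, hk⟩ := P.isPGroup' g
    have h1 : g ^ Nat.card Kˣ = 1 := hΦinj (by
      rw [map_pow, map_one, ← hf g, ← map_pow,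
        show f g ^ Nat.card Kˣ = 1 from funext fun i => pow_card_eq_one', map_one])
    obtain ⟨k', -, hk'⟩ := (Nat.dvd_prime_pow hr).1 (orderOf_dvd_of_pow_eq_one hk)
    have h2 := orderOf_dvd_of_pow_eq_one h1
    rw [hk', Nat.card_units, Nat.card_eq_fintype_card, hK, hr.pow_dvd_iff_le_factorization
      (by have := Nat.one_lt_pow hd.ne' hq2; omega), hv] at h2
    exact orderOf_dvd_iff_pow_eq_one.1 (hk' ▸ pow_dvd_pow r h2)
  have hcard : Nat.card ↥(P : Subgroup ↥(T.datum.group F)) = r ^ (a * v) := by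
    rw [P.card_eq_multiplicity, hG]
  refine homocyclic hv0 hexp ?_ hcard
  -- the twisting element
  set y := mapGL T σ x * x⁻¹ with hy
  have hxG : x ∈ T.datum.group K := x0.2
  have hyG : y ∈ T.datum.group K := mul_mem (map_group σ hT ⟨x, hxG, rfl⟩) (inv_mem hxG)
  obtain ⟨w, hw, hrel⟩ := twist_perm hT hC hyG
  have hfrel : ∀ g, ∀ s : Fin T.n, tCh T (f g) (w⁻¹ s).val = tCh T (f g) s.val ^ q := by
    intro g s
    have h1 : torusHom T K (f g ^ q) * y = y * torusHom T K (f g) := by
      rw [map_pow, ← hmap, hf]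
      show mapGL T σ (x * mapGL T ι _ * x⁻¹) * y = y * (x * mapGL T ι _ * x⁻¹)
      rw [map_mul, map_mul, map_inv, hσι, hy]
      group
    have h2 := hrel _ _ h1 (w⁻¹ s)
    rw [← Equiv.Perm.mul_apply, mul_inv_cancel, Equiv.Perm.one_apply, tCh_pow] at h2
    exact h2.symm
  obtain ⟨ζ, hζ⟩ := exists_prime_orderOf_dvd_card' (G := Kˣ) r hrKu
  have hlog : ∀ g : {g : ↥(P : Subgroup ↥(T.datum.group F)) // g ^ r = 1}, ∀ i : Fin T.rank,
      ∃ k : ℤ, ζ ^ k = tCh T (f g) (T.simple i.val) := by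
    intro g i
    refine Subgroup.mem_zpowers_iff.1 ?_
    rw [(hζ ▸ IsPrimitiveRoot.orderOf ζ : IsPrimitiveRoot ζ r).zpowers_eq, mem_rootsOfUnity, ← tCh_pow]
    have h1 : torusHom T K (f g ^ r) = torusHom T K 1 := by
      rw [map_pow, hf, ← map_pow, g.2, map_one, map_one]
    rw [tCh_of_torus_eq hT h1]
    simp [tCh]
  choose b hb' using hlog
  set M := mat T hT w⁻¹
  refine le_trans (Nat.card_le_card_of_injective
    (β := {z : Fin T.rank → ZMod r // z ᵥ* M.map (Int.castRingHom (ZMod r)) = (q : ZMod r) • z})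
    (fun g => ⟨fun i => (b g i : ZMod r), ?_⟩) ?_) (hb _ (inv_mem hw))
  · rw [cast_vecMul]
    funext k
    have hval : ∀ s : Fin T.n, tCh T (f g) s.val = ζ ^ val T (b g) s.val := by
      intro s
      rw [tCh_linear hT, val, dotProduct, zpow_sum_eq]
      exact Finset.prod_congr rfl fun i _ => by rw [_root_.zpow_mul, hb']
    have h1 := hfrel g (T.simpF hT k)
    rw [hval, hval, ← zpow_natCast, ← _root_.zpow_mul, val_perm hT (inv_mem hw),
      show (T.simpF hT k).val = T.simple k.val from rfl, val_simple hT, val_simple hT, zpow_eq_zpow_iff_modEq,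
      hζ, ← ZMod.intCast_eq_intCast_iff] at h1
    rw [Pi.smul_apply, smul_eq_mul, h1]
    push_cast
    ring
  · intro g g' hgg
    have h1 : ∀ i : Fin T.rank, tCh T (f g) (T.simple i.val) = tCh T (f g') (T.simple i.val) := by
      intro i
      have h2 := congrFun (congrArg Subtype.val hgg) i
      rw [ZMod.intCast_eq_intCast_iff] at h2
      rw [← hb' g i, ← hb' g' i, zpow_eq_zpow_iff_modEq, hζ]
      exact h2
    refine Subtype.ext (hΦinj ?_)
    rw [← hf, ← hf]
    refine torus_congr hT fun s => ?_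
    rw [tCh_linear hT, tCh_linear hT]
    exact Finset.prod_congr rfl fun i _ => by rw [h1]

end CfsgLib.Chevalley.SylowTorus
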