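import Cfsg.Agent.Lib.Chevalley.SylowTorus.Eigen
import Cfsg.Agent.Lib.Chevalley.CoxeterTorus.Weyl
import Cfsg.Agent.Lib.Chevalley.Twist.ToriGen
import Cfsg.Agent.Lib.Chevalley.Poincare

/-!
Elements of Weyl groups with prescribed eigenspaces: the cases left over by the degree bound.
-/

set_option autoImplicit false

namespace CfsgLib.Chevalley.SylowTorus

open Tbl CoxeterTorus
open scoped Matrix

/-- A word acting on root indices. -/
def wapp (T : Tbl) (l : List ℕ) (s : ℕ) : ℕ := l.foldr (fun i x => T.refl i x) s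

variable {T : Tbl} (hT : T.Valid)
include hT

theorem pw_wapp (l : List (Fin T.rank)) (s : Fin T.n) :
    (T.pw hT l s).val = wapp T (l.map Fin.val) s.val := by
  induction l with
  | nil => rfl
  | cons i l ih =>
    rw [pw_cons, Equiv.Perm.mul_apply, refP_apply, ih]
    rfl

theorem refP_mem (i : Fin T.rank) : T.refP hT i ∈ T.WP hT := Subgroup.subset_closure ⟨i, rfl⟩

theorem mat_col {v : Equiv.Perm (Fin T.n)} (hv : v ∈ T.WP hT) (j : Fin T.rank) :
    mat T hT v *ᵥ Pi.single j 1 = fun k : Fin T.rank => T.co (v (T.simpF hT j)).val k.val := by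
  rw [← mat_mulVec hT hv]
  congr 1
  funext k
  rw [show (T.simpF hT j).val = T.simple j.val from rfl, co_simple hT j.2 k.2, Pi.single_apply]
  simp [Fin.ext_iff]

theorem mat_inj {v v' : Equiv.Perm (Fin T.n)} (hv : v ∈ T.WP hT) (hv' : v' ∈ T.WP hT)
    (h : mat T hT v = mat T hT v') : v = v' := by
  refine WP_ext hT hv hv' fun i j hj => ?_
  have := congrFun ((mat_col hT hv i).symm.trans ((by rw [h] : _ = _).trans (mat_col hT hv' i))) ⟨j, hj⟩
  exact this

theorem neg_col {v : Equiv.Perm (Fin T.n)} (hv : v ∈ T.WP hT) {j : Fin T.rank}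
    (h : mat T hT v *ᵥ Pi.single j 1 = -Pi.single j 1) : v (T.simpF hT j) = T.negF (T.simpF hT j) := by
  have h1 : T.negF (v (T.simpF hT j)) = T.simpF hT j := by
    refine eq_simpF_of_co hT fun c hc => ?_
    rw [mat_col hT hv] at h
    have h2 := congrFun h ⟨c, hc⟩
    rw [negF, co_neg hT (Fin.isLt _) hc]
    simp only [Pi.neg_apply, Pi.single_apply] at h2
    rw [h2, neg_neg]
    simp [Fin.ext_iff]
  calc v (T.simpF hT j) = T.negF (T.negF (v (T.simpF hT j))) := Fin.ext (by
        have := (v (T.simpF hT j)).2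
        show _ = T.n - 1 - (T.n - 1 - _)
        omega)
    _ = T.negF (T.simpF hT j) := by rw [h1]

theorem mat_refP_apply (i : Fin T.rank) (μ : Fin T.rank → ℤ) (k : Fin T.rank) :
    (μ ᵥ* mat T hT (T.refP hT i)) k = μ k - T.ca i (T.simple k) * μ i := by
  have h1 := val_perm hT (refP_mem hT i) μ (T.simpF hT k)
  rw [val_refP hT] at h1
  rw [show (T.simpF hT k).val = T.simple k.val from rfl, val_simple hT, val_simple hT] at h1
  exact h1.symm

/-- A word avoiding a fundamental root fixes the corresponding coordinate functional. -/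
theorem fix_single {J : Set (Fin T.rank)} {z : Equiv.Perm (Fin T.n)}
    (hz : z ∈ Subgroup.closure (T.refP hT '' J)) {i : Fin T.rank} (hi : i ∉ J) :
    Pi.single i 1 ᵥ* mat T hT z = Pi.single i 1 := by
  have hle : Subgroup.closure (T.refP hT '' J) ≤ T.WP hT :=
    (Subgroup.closure_le _).2 fun x ⟨j, _, hj⟩ => hj ▸ refP_mem hT j
  induction hz using Subgroup.closure_induction with
  | mem x hx =>
    obtain ⟨j, hj, rfl⟩ := hx
    funext k
    rw [mat_refP_apply hT, Pi.single_eq_of_ne (fun e : j = i => hi (e ▸ hj)), mul_zero, sub_zero]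
  | one => rw [mat_one hT, Matrix.vecMul_one]
  | mul x y hx _ hx' hy' => rw [mat_mul hT (hle hx), ← Matrix.vecMul_vecMul, hx', hy']
  | inv x hx hx' =>
    conv_lhs => rw [← hx']
    rw [Matrix.vecMul_vecMul, ← mat_mul hT (hle hx), mul_inv_cancel, mat_one hT, Matrix.vecMul_one]

/-- Some element of a parabolic subgroup makes a functional dominant on its fundamental roots. -/
theorem exists_dominant (J : Set (Fin T.rank)) (μ : Fin T.rank → ℤ) :
    ∃ v ∈ Subgroup.closure (T.refP hT '' J), ∀ i ∈ J, 0 ≤ (μ ᵥ* mat T hT v) i := by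
  classical
  have hle : Subgroup.closure (T.refP hT '' J) ≤ T.WP hT :=
    (Subgroup.closure_le _).2 fun x ⟨j, _, hj⟩ => hj ▸ refP_mem hT j
  let P : Equiv.Perm (Fin T.n) → Finset (Fin T.n) := fun v =>
    Finset.univ.filter fun s => T.half ≤ s.val ∧ 0 < val T μ (v s).val
  obtain ⟨v, hv, hmax⟩ := Finset.exists_max_image
    (Finset.univ.filter fun v => v ∈ Subgroup.closure (T.refP hT '' J)) (fun v => (P v).card)
    ⟨1, by simp [one_mem]⟩
  simp only [Finset.mem_filter, Finset.mem_univ, true_and] at hv hmax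
  refine ⟨v, hv, fun i hi => ?_⟩
  by_contra hlt
  rw [not_le] at hlt
  have hsi : val T μ (v (T.simpF hT i)).val < 0 := by
    rw [val_perm hT (hle hv), show (T.simpF hT i).val = T.simple i.val from rfl, val_simple hT]
    exact hlt
  have hr : T.refP hT i ∈ Subgroup.closure (T.refP hT '' J) := Subgroup.subset_closure ⟨i, hi, rfl⟩
  have hP : ∀ v s, s ∈ P v ↔ (T.half ≤ s.val ∧ 0 < val T μ (v s).val) := fun v s => by simp [P]
  have hsub : insert (T.simpF hT i) ((P v).image (T.refP hT i)) ⊆ P (v * T.refP hT i) := by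
    intro t ht
    rw [Finset.mem_insert, Finset.mem_image] at ht
    rw [hP, Equiv.Perm.mul_apply]
    rcases ht with rfl | ⟨s, hs, rfl⟩
    · refine ⟨half_le_simpF hT i, ?_⟩
      rw [refP_simpF, WP_negF hT (hle hv), val_negF hT]
      omega
    · rw [hP] at hs
      refine ⟨refP_pos hT hs.1 fun e => ?_, ?_⟩
      · rw [e] at hs; omega
      · rw [← Equiv.Perm.mul_apply (T.refP hT i), refP_mul_self, Equiv.Perm.one_apply]
        exact hs.2
  have hnot : T.simpF hT i ∉ (P v).image (T.refP hT i) := by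
    rw [Finset.mem_image]
    rintro ⟨s, hs, e⟩
    rw [hP] at hs
    have : s = T.refP hT i (T.simpF hT i) := by
      rw [← e, ← Equiv.Perm.mul_apply, refP_mul_self, Equiv.Perm.one_apply]
    rw [this, refP_simpF] at hs
    exact absurd hs.1 (not_le.2 (negF_lt (half_le_simpF hT i)))
  have h1 := hmax (v * T.refP hT i) (mul_mem hv hr)
  have h2 := Finset.card_le_card hsub
  rw [Finset.card_insert_of_notMem hnot, Finset.card_image_of_injective _ (T.refP hT i).injective] at h2
  omega

/-- A parabolic subgroup has an element sending its fundamental roots to negative roots. -/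
theorem exists_negator (J : Set (Fin T.rank)) :
    ∃ z ∈ Subgroup.closure (T.refP hT '' J), ∀ j ∈ J, (z (T.simpF hT j)).val < T.half := by
  obtain ⟨z, hz, h⟩ := exists_dominant hT J (fun _ => -1)
  have hle : Subgroup.closure (T.refP hT '' J) ≤ T.WP hT :=
    (Subgroup.closure_le _).2 fun x ⟨j, _, hj⟩ => hj ▸ refP_mem hT j
  refine ⟨z, hz, fun j hj => ?_⟩
  by_contra hge
  rw [not_lt] at hge
  have h1 := h j hj
  rw [← val_simple hT (_ ᵥ* mat T hT z) j, show T.simple j.val = (T.simpF hT j).val from rfl,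
    ← val_perm hT (hle hz)] at h1
  obtain ⟨k, hk⟩ := Function.ne_iff.1 (co_ne_zero hT (z (T.simpF hT j)))
  have h2 : 0 < ∑ k : Fin T.rank, T.co (z (T.simpF hT j)).val k.val :=
    Finset.sum_pos' (fun k _ => co_nonneg' hT hge k.2)
      ⟨k, Finset.mem_univ _, lt_of_le_of_ne (co_nonneg' hT hge k.2) (Ne.symm hk)⟩
  simp only [val, dotProduct, neg_mul, one_mul, Finset.sum_neg_distrib] at h1
  omega

/-- An element fixing a dominant functional and negating the fundamental roots it kills. -/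
theorem eq_negator {v z : Equiv.Perm (Fin T.n)} (hv : v ∈ T.WP hT) (hz : z ∈ T.WP hT)
    {μ : Fin T.rank → ℤ} (hμ : ∀ i, 0 ≤ μ i) (hvμ : μ ᵥ* mat T hT v = μ) (hzμ : μ ᵥ* mat T hT z = μ)
    (hneg : ∀ j, μ j = 0 → v (T.simpF hT j) = T.negF (T.simpF hT j))
    (hzneg : ∀ j, μ j = 0 → (z (T.simpF hT j)).val < T.half) : z * v = 1 := by
  refine eq_one_of_pos hT (mul_mem hz hv) fun j => ?_
  rcases (hμ j).eq_or_lt with h0 | hpos
  · rw [Equiv.Perm.mul_apply, hneg j h0.symm, WP_negF hT hz]
    exact le_negF (hzneg j h0.symm)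
  · by_contra hlt
    rw [not_le] at hlt
    have h1 : val T μ ((z * v) (T.simpF hT j)).val = μ j := by
      rw [Equiv.Perm.mul_apply, val_perm hT hz, hzμ, val_perm hT hv, hvμ,
        show (T.simpF hT j).val = T.simple j.val from rfl, val_simple hT]
    have h2 : 0 ≤ val T μ (T.negF ((z * v) (T.simpF hT j))).val := by
      simp only [val, dotProduct]
      exact Finset.sum_nonneg fun k _ => mul_nonneg (hμ k) (co_nonneg' hT (le_negF hlt) k.2)
    rw [val_negF hT, h1] at h2
    omega

/-- `-1` is not in the Weyl group if some negator of all fundamental roots is not `-1`. -/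
theorem no_neg_one {l : List (Fin T.rank)}
    (h1 : ∀ j : Fin T.rank, wapp T (l.map Fin.val) (T.simple j.val) < T.half)
    (h2 : ∃ j : Fin T.rank, wapp T (l.map Fin.val) (T.simple j.val) ≠ T.neg (T.simple j.val))
    {v : Equiv.Perm (Fin T.n)} (hv : v ∈ T.WP hT) : mat T hT v ≠ -1 := by
  intro h
  have hneg : ∀ j, v (T.simpF hT j) = T.negF (T.simpF hT j) := fun j =>
    neg_col hT hv (by rw [h, Matrix.neg_mulVec, Matrix.one_mulVec])
  have h3 : T.pw hT l * v = 1 :=
    eq_negator hT hv (pw_mem hT l) (μ := 0) (fun _ => le_rfl) (Matrix.zero_vecMul _)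
      (Matrix.zero_vecMul _) (fun j _ => hneg j) fun j _ => by rw [pw_wapp hT]; exact h1 j
  obtain ⟨j, hj⟩ := h2
  refine hj ?_
  have h4 : T.pw hT l (v (T.simpF hT j)) = T.simpF hT j := by
    rw [← Equiv.Perm.mul_apply, h3, Equiv.Perm.one_apply]
  rw [hneg, WP_negF hT (pw_mem hT l)] at h4
  have h5 := congrArg (fun s : Fin T.n => T.neg s.val) h4
  have h6 : (T.pw hT l (T.simpF hT j)).val = T.neg (T.simple j.val) := by
    rw [show T.neg (T.simple j.val) = T.neg (T.negF (T.pw hT l (T.simpF hT j))).val from h5.symm]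
    have := (T.pw hT l (T.simpF hT j)).2
    show _ = T.n - 1 - (T.n - 1 - _)
    omega
  rwa [pw_wapp hT] at h6

/-- An involution fixing a line of functionals only is conjugate to the negator of a maximal
parabolic subgroup. -/
theorem line_case {v : Equiv.Perm (Fin T.n)} (hv : v ∈ T.WP hT)
    (h2 : mat T hT v * mat T hT v = 1) (hne : mat T hT v ≠ -1)
    (hline : ∀ y y' : Fin T.rank → ℤ, y ᵥ* mat T hT v = y → y' ᵥ* mat T hT v = y' →
      ∀ i j, y i * y' j = y j * y' i)
    (L : Fin T.rank → List (Fin T.rank)) (hL : ∀ i : Fin T.rank, i ∉ L i)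
    (hLneg : ∀ i j : Fin T.rank, j ≠ i → wapp T ((L i).map Fin.val) (T.simple j.val) < T.half) :
    ∃ g ∈ T.WP hT, ∃ i : Fin T.rank, g⁻¹ * v * g = T.pw hT (L i) ∧
      ∀ j : Fin T.rank, j ≠ i → wapp T ((L i).map Fin.val) (T.simple j.val) = T.neg (T.simple j.val) := by
  classical
  set M := mat T hT v
  obtain ⟨i0, hi0⟩ : ∃ i0, (fun k => (M + 1) i0 k) ≠ 0 := by
    by_contra h
    push Not at h
    exact hne (eq_neg_of_add_eq_zero_left (Matrix.ext fun a b => congrFun (h a) b))
  set y : Fin T.rank → ℤ := Pi.single i0 1 ᵥ* (M + 1) with hydef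
  have hy : y ᵥ* M = y := by
    rw [hydef, Matrix.vecMul_vecMul, Matrix.add_mul, h2, one_mul, add_comm]
  have hy0 : y ≠ 0 := by
    intro h
    refine hi0 (funext fun k => ?_)
    have := congrFun h k
    simpa [hydef, Matrix.single_one_vecMul] using this
  obtain ⟨g, hg, hdom⟩ := exists_dominant hT Set.univ y
  rw [Set.image_univ] at hg
  change g ∈ T.WP hT at hg
  set μ := y ᵥ* mat T hT g with hμdef
  have hdom' : ∀ i, 0 ≤ μ i := fun i => hdom i (Set.mem_univ i)
  set v' := g⁻¹ * v * g with hv'def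
  have hv' : v' ∈ T.WP hT := mul_mem (mul_mem (inv_mem hg) hv) hg
  have hgg : mat T hT g * mat T hT g⁻¹ = 1 := by rw [← mat_mul hT hg, mul_inv_cancel, mat_one hT]
  have hgg' : mat T hT g⁻¹ * mat T hT g = 1 := by
    rw [← mat_mul hT (inv_mem hg), inv_mul_cancel, mat_one hT]
  have hM' : mat T hT v' = mat T hT g⁻¹ * M * mat T hT g := by
    rw [hv'def, mat_mul hT (mul_mem (inv_mem hg) hv), mat_mul hT (inv_mem hg)]
  have h2' : mat T hT v' * mat T hT v' = 1 := by
    rw [hM', show mat T hT g⁻¹ * M * mat T hT g * (mat T hT g⁻¹ * M * mat T hT g) =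
      mat T hT g⁻¹ * M * (mat T hT g * mat T hT g⁻¹) * M * mat T hT g by simp only [mul_assoc],
      hgg, mul_one, mul_assoc (mat T hT g⁻¹), h2, mul_one, hgg']
  have hμ0 : μ ≠ 0 := by
    intro h
    refine hy0 ?_
    rw [← Matrix.vecMul_one y, ← hgg, ← Matrix.vecMul_vecMul, ← hμdef, h, Matrix.zero_vecMul]
  have hprop : ∀ z : Fin T.rank → ℤ, z ᵥ* mat T hT v' = z → ∀ a b, z a * μ b = z b * μ a := by
    intro z hz a b
    have hz' : (z ᵥ* mat T hT g⁻¹) ᵥ* M = z ᵥ* mat T hT g⁻¹ := by
      have := congrArg (fun t => t ᵥ* mat T hT g⁻¹) hz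
      simp only [hM', Matrix.vecMul_vecMul, mul_assoc, hgg, mul_one] at this
      rw [Matrix.vecMul_vecMul, this]
    have h3 := hline _ y hz' hy
    have e : z = (z ᵥ* mat T hT g⁻¹) ᵥ* mat T hT g := by
      rw [Matrix.vecMul_vecMul, hgg', Matrix.vecMul_one]
    generalize z ᵥ* mat T hT g⁻¹ = z' at h3 e
    rw [e, hμdef]
    simp only [Matrix.vecMul, dotProduct, Finset.sum_mul_sum]
    conv_rhs => rw [Finset.sum_comm]
    refine Finset.sum_congr rfl fun c _ => Finset.sum_congr rfl fun d _ => ?_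
    have := h3 c d
    linear_combination (mat T hT g c a * mat T hT g d b) * this
  have hμfix : μ ᵥ* mat T hT v' = μ := by
    rw [hμdef, hM', Matrix.vecMul_vecMul, ← mul_assoc, ← mul_assoc, hgg, one_mul,
      ← Matrix.vecMul_vecMul, hy]
  have hcol : ∀ j, μ j = 0 → v' (T.simpF hT j) = T.negF (T.simpF hT j) := by
    intro j hj
    refine neg_col hT hv' ?_
    funext a
    have h3 : Pi.single a 1 ᵥ* (mat T hT v' + 1) ᵥ* mat T hT v' = Pi.single a 1 ᵥ* (mat T hT v' + 1) := by
      rw [Matrix.vecMul_vecMul, Matrix.add_mul, h2', one_mul, add_comm]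
    obtain ⟨b, hb⟩ := Function.ne_iff.1 hμ0
    have h4 := hprop _ h3 j b
    rw [hj, mul_zero] at h4
    have h5 := (mul_eq_zero.1 h4).resolve_right hb
    rw [Matrix.single_one_vecMul] at h5
    simp only [Matrix.row, Matrix.add_apply] at h5
    rw [Matrix.mulVec_single_one, Pi.neg_apply]
    simp only [Matrix.col_apply]
    rw [Matrix.one_apply] at h5
    rw [Pi.single_apply]
    split_ifs at h5 ⊢ <;> omega
  obtain ⟨z, hz, hzneg⟩ := exists_negator hT {j | μ j = 0}
  have hzW : z ∈ T.WP hT := (Subgroup.closure_mono (Set.image_subset_range _ _) hz : _)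
  have hμsum : μ = ∑ k, μ k • (Pi.single k (1 : ℤ) : Fin T.rank → ℤ) := pi_eq_sum_univ' μ
  have hzμ : μ ᵥ* mat T hT z = μ := by
    conv_lhs => rw [hμsum]
    rw [Matrix.sum_vecMul]
    conv_rhs => rw [hμsum]
    refine Finset.sum_congr rfl fun k _ => ?_
    by_cases hk : μ k = 0
    · simp [hk]
    · rw [Matrix.smul_vecMul, fix_single hT hz (i := k) hk]
  have hzv : z * v' = 1 := eq_negator hT hv' hzW hdom' hμfix hzμ hcol fun j hj => hzneg j hj
  have hv'mem : v' ∈ Subgroup.closure (T.refP hT '' {j | μ j = 0}) := by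
    rw [eq_inv_of_mul_eq_one_right hzv]
    exact inv_mem hz
  obtain ⟨i, hi⟩ := Function.ne_iff.1 hμ0
  have honly : ∀ j, j ≠ i → μ j = 0 := by
    intro j hji
    have := hprop _ (fix_single hT hv'mem (i := i) hi) i j
    rwa [Pi.single_eq_same, one_mul, Pi.single_eq_of_ne hji, zero_mul] at this
  have hLmem : T.pw hT (L i) ∈ T.WP hT := pw_mem hT _
  have hLμ : μ ᵥ* mat T hT (T.pw hT (L i)) = μ := by
    have hc : T.pw hT (L i) ∈ Subgroup.closure (T.refP hT '' {j | j ≠ i}) := by
      refine list_prod_mem fun x hx => ?_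
      obtain ⟨j, hj, rfl⟩ := List.mem_map.mp hx
      exact Subgroup.subset_closure ⟨j, fun e => hL i (e ▸ hj), rfl⟩
    have : μ = μ i • Pi.single i 1 := funext fun j => by
      by_cases hji : j = i
      · subst hji; simp
      · simp [honly j hji, Pi.single_eq_of_ne hji]
    conv_lhs => rw [this]
    rw [Matrix.smul_vecMul, fix_single hT hc (i := i) (by simp), ← this]
  have hne' : ∀ j, μ j = 0 → j ≠ i := fun j hj e => hi (e ▸ hj)
  have h3 := eq_negator hT hv' hLmem hdom' hμfix hLμ hcol fun j hj => by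
    rw [pw_wapp hT]; exact hLneg i j (hne' j hj)
  have hinv : v' = T.pw hT (L i) := by
    have h4 : v' * v' = 1 := mat_inj hT (mul_mem hv' hv') (one_mem _) (by
      rw [mat_mul hT hv', h2', mat_one hT])
    rw [← mul_one (T.pw hT (L i)), ← h4, ← mul_assoc, h3, one_mul]
  refine ⟨g, hg, i, hinv, fun j hj => ?_⟩
  have h4 := congrArg Fin.val (hcol j (honly j hj))
  rwa [hinv, pw_wapp hT] at h4

/-- An element of order three in a group with `3`-part three fixes a functional. -/
theorem order_three {v : Equiv.Perm (Fin T.n)} (hv : v ∈ T.WP hT)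
    (h : mat T hT v * mat T hT v + mat T hT v + 1 = 0)
    (h3 : (Nat.card (T.WP hT)).factorization 3 = 1) {l : List (Fin T.rank)} {m : Fin T.rank}
    (hm : m ∉ l) (hl1 : T.pw hT l ≠ 1) (hl3 : T.pw hT l ^ 3 = 1) : False := by
  classical
  have : Fact (Nat.Prime 3) := ⟨Nat.prime_three⟩
  set M := mat T hT v
  have hM3 : M ^ 3 = 1 := by
    have e : M ^ 3 - 1 = (M * M + M + 1) * (M - 1) := by noncomm_ring
    rwa [h, zero_mul, sub_eq_zero] at e
  have hv3 : v ^ 3 = 1 := mat_inj hT (pow_mem hv 3) (one_mem _) (by rw [mat_pow hT hv, hM3, mat_one hT])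
  have hv1 : v ≠ 1 := by
    intro e
    have h1 : (1 + 1 + 1 : Matrix (Fin T.rank) (Fin T.rank) ℤ) = 0 := by
      simpa [M, e, mat_one hT] using h
    have := congrFun (congrFun h1 m) m
    simp at this
  set vW : ↥(T.WP hT) := ⟨v, hv⟩
  set tW : ↥(T.WP hT) := ⟨T.pw hT l, pw_mem hT l⟩
  have hov : orderOf vW = 3 := orderOf_eq_prime (Subtype.ext hv3) fun e => hv1 (congrArg Subtype.val e)
  have hot : orderOf tW = 3 := orderOf_eq_prime (Subtype.ext hl3) fun e => hl1 (congrArg Subtype.val e)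
  obtain ⟨c, hc⟩ := Twist.ToriGen.conj_into (p := 3) (k := 1) (Subgroup.zpowers tW)
    (by rw [Nat.card_zpowers, hot, h3, Nat.Prime.factorization_self Nat.prime_three]) (y := vW)
    (by rw [hov, pow_one])
  obtain ⟨n, hn⟩ := Subgroup.mem_zpowers_iff.1 hc
  have hn' : T.pw hT l ^ n = (c : Equiv.Perm (Fin T.n)) * v * (c : Equiv.Perm (Fin T.n))⁻¹ := by
    simpa [vW, tW] using congrArg Subtype.val hn
  have hfix : Pi.single m 1 ᵥ* mat T hT (T.pw hT l ^ n) = Pi.single m 1 := by
    refine fix_single hT (J := {j | j ≠ m}) (zpow_mem (list_prod_mem fun x hx => ?_) n) (by simp)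
    obtain ⟨j, hj, rfl⟩ := List.mem_map.mp hx
    exact Subgroup.subset_closure ⟨j, fun e => hm (e ▸ hj), rfl⟩
  rw [hn', mat_mul hT (mul_mem c.2 hv), mat_mul hT c.2, ← Matrix.vecMul_vecMul, ← Matrix.vecMul_vecMul] at hfix
  set y := Pi.single m 1 ᵥ* mat T hT (c : Equiv.Perm (Fin T.n)) with hydef
  have hcc : mat T hT (c : Equiv.Perm (Fin T.n))⁻¹ * mat T hT (c : Equiv.Perm (Fin T.n)) = 1 := by
    rw [← mat_mul hT (inv_mem c.2), inv_mul_cancel, mat_one hT]
  have hy : y ᵥ* M = y := by
    have := congrArg (fun t => t ᵥ* mat T hT (c : Equiv.Perm (Fin T.n))) hfix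
    simp only [Matrix.vecMul_vecMul, mul_assoc, hcc, mul_one] at this
    exact this.trans hydef.symm
  have h4 : y ᵥ* (M * M + M + 1) = y + y + y := by
    rw [Matrix.vecMul_add, Matrix.vecMul_add, ← Matrix.vecMul_vecMul, hy, hy, Matrix.vecMul_one]
  rw [h, Matrix.vecMul_zero] at h4
  have hy0 : y = 0 := funext fun k => by
    have := congrFun h4 k
    simp only [Pi.zero_apply, Pi.add_apply] at this ⊢
    omega
  have hcc' : mat T hT (c : Equiv.Perm (Fin T.n)) * mat T hT (c : Equiv.Perm (Fin T.n))⁻¹ = 1 := by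
    rw [← mat_mul hT c.2, mul_inv_cancel, mat_one hT]
  have h5 : (Pi.single m 1 : Fin T.rank → ℤ) = 0 := by
    rw [← Matrix.vecMul_one (Pi.single m 1), ← hcc', ← Matrix.vecMul_vecMul, ← hydef, hy0,
      Matrix.zero_vecMul]
  simpa using congrFun h5 m

end CfsgLib.Chevalley.SylowTorus
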